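import Groth.Prelude.Def_AlgSp
import Groth.Agent.L23.UHPush
import Groth.Agent.L23.AffineMor
import Mathlib.CategoryTheory.Limits.Preserves.Shapes.BinaryProducts

/-!
# Restriction of fppf sheaves along a morphism of base schemes
-/

universe u

open CategoryTheory CategoryTheory.Limits AlgebraicGeometry Opposite AlgSp

set_option autoImplicit false
set_option linter.style.haveILetI false
set_option backward.isDefEq.respectTransparency false
set_option backward.isDefEq.respectTransparency.types false

noncomputable section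

namespace Groth.L09.OverMapSp

variable {S S' : Scheme.{u}} (g : S ⟶ S')

/-- Restriction of sheaves along `g`. -/
abbrev res : Sp S' ⥤ Sp S := Scheme.fppfTopology.overMapPullback (Type (u + 1)) g

variable {g}

/-- Maps from schemes into a restricted sheaf. -/
def homEquiv {F : Sp S'} (T : Over S) :
    ((yon S).obj T ⟶ (res g).obj F) ≃ ((yon S').obj ((Over.map g).obj T) ⟶ F) :=
  (AlgSp.J S).uliftYonedaEquiv.trans (AlgSp.J S').uliftYonedaEquiv.symm

theorem homEquiv_apply {F : Sp S'} {T : Over S} (x : (yon S).obj T ⟶ (res g).obj F) :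
    (AlgSp.J S').uliftYonedaEquiv (homEquiv T x) = (AlgSp.J S).uliftYonedaEquiv x :=
  Equiv.apply_symm_apply _ _

theorem homEquiv_naturality {F : Sp S'} {T T' : Over S} (a : T' ⟶ T) (x : (yon S).obj T ⟶ (res g).obj F) :
    homEquiv T' ((yon S).map a ≫ x) = (yon S').map ((Over.map g).map a) ≫ homEquiv T x := by
  apply (AlgSp.J S').uliftYonedaEquiv.injective
  rw [homEquiv_apply]
  refine ((AlgSp.J S).uliftYonedaEquiv_naturality x a).symm.trans ?_
  refine Eq.trans ?_ ((AlgSp.J S').uliftYonedaEquiv_naturality (homEquiv T x) ((Over.map g).map a))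
  rw [homEquiv_apply]
  rfl

theorem homEquiv_comp {F G : Sp S'} (f : F ⟶ G) {T : Over S} (x : (yon S).obj T ⟶ (res g).obj F) :
    homEquiv T (x ≫ (res g).map f) = homEquiv T x ≫ f := by
  apply (AlgSp.J S').uliftYonedaEquiv.injective
  rw [homEquiv_apply]
  refine ((AlgSp.J S).uliftYonedaEquiv_comp x ((res g).map f)).trans ?_
  refine Eq.trans ?_ ((AlgSp.J S').uliftYonedaEquiv_comp (homEquiv T x) f).symm
  rw [homEquiv_apply]
  rfl

theorem exists_map_eq {T : Over S} {W' : Over S'} (q : W' ⟶ (Over.map g).obj T) :
    ∃ (W : Over S) (q₀ : W ⟶ T) (e : (Over.map g).obj W ≅ W'),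
      (Over.map g).map q₀ = e.hom ≫ q ∧ q₀.left = e.hom.left ≫ q.left ∧ IsIso e.hom.left := by
  refine ⟨Over.mk (q.left ≫ T.hom), Over.homMk q.left, Over.isoMk (Iso.refl _) (by simpa using (Over.w q).symm), ?_, ?_, ?_⟩
  · ext; exact (Category.id_comp q.left).symm
  · exact (Category.id_comp q.left).symm
  · exact inferInstanceAs (IsIso (𝟙 W'.left))

/-- Maps over the smaller base are maps over the larger base compatible with the structure maps. -/
theorem exists_over_hom {T T' : Over S} (a : (Over.map g).obj T' ⟶ (Over.map g).obj T)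
    (h : a.left ≫ T.hom = T'.hom) : ∃ b : T' ⟶ T, (Over.map g).map b = a :=
  ⟨Over.homMk a.left h, Over.OverMorphism.ext rfl⟩

theorem map_injective {T T' : Over S} {a b : T ⟶ T'} (h : (Over.map g).map a = (Over.map g).map b) : a = b :=
  Over.OverMorphism.ext (congrArg CommaMorphism.left h : _)

theorem repWith_res (P : MorphismProperty Scheme.{u}) [P.IsStableUnderBaseChange] {F G : Sp S'} {f : F ⟶ G}
    (hf : RepWith P f) : RepWith P ((res g).map f) := by
  have key : ∀ (T : Over S) (x : (yon S).obj T ⟶ (res g).obj G),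
      ∃ (W : Over S) (i : W ⟶ T) (fst : (yon S).obj W ⟶ (res g).obj F),
        IsPullback fst ((yon S).map i) ((res g).map f) x ∧ P i.left := by
    intro T x
    obtain ⟨W', q, fst', sq⟩ : ∃ (W' : Over S') (q : W' ⟶ (Over.map g).obj T) (fst' : (yon S').obj W' ⟶ F),
        IsPullback fst' ((yon S').map q) f (homEquiv T x) := ⟨_, _, _, hf.rep.isPullback _⟩
    have hq : P q.left := hf.property _ _ _ sq
    obtain ⟨W, q₀, e, hq₀, hq₁, he⟩ := exists_map_eq q
    let fst : (yon S).obj W ⟶ (res g).obj F := (homEquiv W).symm ((yon S').map e.hom ≫ fst')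
    have hfst : homEquiv W fst = (yon S').map e.hom ≫ fst' := Equiv.apply_symm_apply _ _
    refine ⟨W, q₀, fst, Groth.L23.UHPush.isPullback_of_yon ((homEquiv W).injective ?_) ?_ ?_, ?_⟩
    · rw [homEquiv_comp, hfst, homEquiv_naturality, hq₀, Category.assoc, sq.w, Functor.map_comp, Category.assoc]
    · intro Z k k' h₁ h₂
      obtain ⟨k, rfl⟩ := (yon S).map_surjective k
      obtain ⟨k', rfl⟩ := (yon S).map_surjective k'
      have h₁' := congrArg (homEquiv Z) h₁
      rw [homEquiv_naturality, homEquiv_naturality, hfst] at h₁'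
      have h₂' : (Over.map g).map k ≫ (Over.map g).map q₀ = (Over.map g).map k' ≫ (Over.map g).map q₀ := by
        rw [← Functor.map_comp, ← Functor.map_comp, (yon S).map_injective ((Functor.map_comp _ _ _).trans
          (h₂.trans (Functor.map_comp _ _ _).symm))]
      have h₃ : (Over.map g).map k ≫ e.hom = (Over.map g).map k' ≫ e.hom :=
        (yon S').map_injective (sq.hom_ext (by simpa [Functor.map_comp] using h₁')
          (by rw [← Functor.map_comp, ← Functor.map_comp, Category.assoc, Category.assoc, ← hq₀, h₂']))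
      exact congrArg _ (map_injective ((cancel_mono e.hom).1 h₃))
    · intro Z u v huv
      obtain ⟨v, rfl⟩ := (yon S).map_surjective v
      have h := congrArg (homEquiv Z) huv
      rw [homEquiv_comp, homEquiv_naturality] at h
      obtain ⟨l, hl⟩ := (yon S').map_surjective (sq.lift (homEquiv Z u) ((yon S').map ((Over.map g).map v)) h)
      have hlq : l ≫ q = (Over.map g).map v :=
        (yon S').map_injective (by rw [Functor.map_comp, hl, sq.lift_snd])
      obtain ⟨k, hk⟩ := exists_over_hom (T := W) (T' := Z) (l ≫ e.inv) (by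
        have h1 : W.hom = q₀.left ≫ T.hom := (Over.w q₀).symm
        have h2 : (l ≫ e.inv).left ≫ q₀.left = v.left := by
          have : (l ≫ e.inv) ≫ (Over.map g).map q₀ = (Over.map g).map v := by rw [hq₀, Category.assoc, e.inv_hom_id_assoc, hlq]
          exact congrArg CommaMorphism.left this
        rw [h1, ← Category.assoc, h2]
        exact Over.w v)
      refine ⟨(yon S).map k, (homEquiv Z).injective ?_, ?_⟩
      · rw [homEquiv_naturality, hfst, hk, ← Category.assoc, ← Functor.map_comp, Category.assoc, e.inv_hom_id,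
          Category.comp_id, hl, sq.lift_fst]
      · rw [← Functor.map_comp]
        congr 1
        exact map_injective (g := g) (by rw [Functor.map_comp, hk, hq₀, Category.assoc, e.inv_hom_id_assoc, hlq])
    · rw [hq₁]; exact (MorphismProperty.cancel_left_of_respectsIso P _ _).2 hq
  have hrep : Representable ((res g).map f) := fun T x => by
    obtain ⟨W, i, fst, sq, -⟩ := key T x
    exact ⟨W, i, fst, sq⟩
  refine Groth.L23.repWith_of_snd hrep fun T x => ?_
  obtain ⟨W, i, fst, sq, hi⟩ := key T x
  obtain ⟨k, hk⟩ := (yon S).map_surjective ((hrep.isPullback x).isoIsPullback _ _ sq).hom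
  haveI : IsIso ((yon S).map k) := by rw [hk]; infer_instance
  haveI : IsIso k := isIso_of_fully_faithful (yon S) k
  have hki : k ≫ i = hrep.snd x := (yon S).map_injective (by
    rw [Functor.map_comp, hk, IsPullback.isoIsPullback_hom_snd])
  rw [← hki, Over.comp_left]
  exact (MorphismProperty.cancel_left_of_respectsIso P _ _).2 hi

end Groth.L09.OverMapSp
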