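import Groth.Agent.L09.OverMapSp.Fibre

/-!
# Algebraic spaces over the smaller base are spaces over it
-/

universe u

open CategoryTheory CategoryTheory.Limits AlgebraicGeometry Opposite AlgSp

set_option autoImplicit false
set_option linter.style.haveILetI false
set_option backward.isDefEq.respectTransparency false
set_option backward.isDefEq.respectTransparency.types false

noncomputable section

namespace Groth.L09.OverMapSp

open Groth.L23

variable {S S' : Scheme.{u}} {g : S ⟶ S'} {X X' : Sp S} {Y : Sp S'}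

theorem exists_incl {T' : Over S'} (z : (yon S').obj T' ⟶ tot g X) :
    ∃ (T : Over S) (e : (Over.map g).obj T ≅ T') (x : (yon S).obj T ⟶ X),
      (yon S').map e.hom ≫ z = incl g x := by
  obtain ⟨E, rfl⟩ := exists_pt z
  refine ⟨_, srcIso g E.s, E.x, ?_⟩
  rw [pt_eq, ← Category.assoc, ← Functor.map_comp, Iso.hom_inv_id, CategoryTheory.Functor.map_id, Category.id_comp]

theorem hom_ext_incl {a b : tot g X ⟶ Y}
    (h : ∀ {T : Over S} (x : (yon S).obj T ⟶ X), incl g x ≫ a = incl g x ≫ b) : a = b :=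
  (AlgSp.J S').hom_ext_uliftYoneda fun T' z => by
    obtain ⟨E, rfl⟩ := exists_pt z
    rw [pt_eq, Category.assoc, h, Category.assoc]

theorem exists_desc (ψ : ∀ {T : Over S}, ((yon S).obj T ⟶ X) → ((yon S').obj ((Over.map g).obj T) ⟶ Y))
    (hψ : ∀ {T T₀ : Over S} (b : T ⟶ T₀) (x : (yon S).obj T₀ ⟶ X),
      (yon S').map ((Over.map g).map b) ≫ ψ x = ψ ((yon S).map b ≫ x)) :
    ∃ a : tot g X ⟶ Y, ∀ {T : Over S} (x : (yon S).obj T ⟶ X), incl g x ≫ a = ψ x := by
  let a : tot g X ⟶ Y := ObjectProperty.homMk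
    { app := fun T => ↾fun E : TotElem g X T.unop =>
        (AlgSp.J S').uliftYonedaEquiv.{u + 1} ((yon S').map (srcIso g E.s).inv ≫ ψ E.x)
      naturality := fun T₁ T₂ φ => by
        ext E
        show (AlgSp.J S').uliftYonedaEquiv ((yon S').map (srcIso g (E.restrict φ.unop).s).inv ≫ ψ (E.restrict φ.unop).x) =
          Y.obj.map φ ((AlgSp.J S').uliftYonedaEquiv ((yon S').map (srcIso g E.s).inv ≫ ψ E.x))
        rw [GrothendieckTopology.uliftYonedaEquiv_naturality']
        congr 1
        show _ ≫ ψ ((yon S).map _ ≫ E.x) = _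
        rw [← hψ, ← Category.assoc, ← Category.assoc, ← Functor.map_comp, ← Functor.map_comp]
        exact hom_congr' (by show 𝟙 _ ≫ φ.unop.left = φ.unop.left ≫ 𝟙 _; simp) _ }
  refine ⟨a, fun {T} x => (AlgSp.J S').uliftYonedaEquiv.injective ?_⟩
  rw [GrothendieckTopology.uliftYonedaEquiv_comp, incl, pt, Equiv.apply_symm_apply]
  refine congrArg (AlgSp.J S').uliftYonedaEquiv ?_
  show _ ≫ ψ ((yon S).map _ ≫ x) = ψ x
  rw [← hψ, ← Category.assoc, ← Functor.map_comp]
  refine (hom_congr' (a' := 𝟙 _) ?_ _).trans (by rw [CategoryTheory.Functor.map_id, Category.id_comp])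
  show 𝟙 _ ≫ 𝟙 _ = 𝟙 _
  exact Category.id_comp _

/-- Maps out of the sheaf over the larger base. -/
def desc (ψ : ∀ {T : Over S}, ((yon S).obj T ⟶ X) → ((yon S').obj ((Over.map g).obj T) ⟶ Y))
    (hψ : ∀ {T T₀ : Over S} (b : T ⟶ T₀) (x : (yon S).obj T₀ ⟶ X),
      (yon S').map ((Over.map g).map b) ≫ ψ x = ψ ((yon S).map b ≫ x)) : tot g X ⟶ Y :=
  (exists_desc ψ hψ).choose

theorem incl_desc (ψ : ∀ {T : Over S}, ((yon S).obj T ⟶ X) → ((yon S').obj ((Over.map g).obj T) ⟶ Y))
    (hψ : ∀ {T T₀ : Over S} (b : T ⟶ T₀) (x : (yon S).obj T₀ ⟶ X),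
      (yon S').map ((Over.map g).map b) ≫ ψ x = ψ ((yon S).map b ≫ x)) {T : Over S} (x : (yon S).obj T ⟶ X) :
    incl g x ≫ desc ψ hψ = ψ x :=
  (exists_desc ψ hψ).choose_spec x

/-- Functoriality. -/
def totMap (f : X ⟶ X') : tot g X ⟶ tot g X' :=
  desc (fun x => incl g (x ≫ f)) fun b x => by rw [map_incl, Category.assoc]

theorem incl_totMap (f : X ⟶ X') {T : Over S} (x : (yon S).obj T ⟶ X) :
    incl g x ≫ totMap f = incl g (x ≫ f) :=
  incl_desc (fun x => incl g (x ≫ f)) (fun b x => by rw [map_incl, Category.assoc]) x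

variable (g) in
/-- The functor. -/
def totF : Sp S ⥤ Sp S' where
  obj X := tot g X
  map f := totMap f
  map_id X := hom_ext_incl fun x => by rw [incl_totMap, Category.comp_id, Category.comp_id]
  map_comp f f' := hom_ext_incl fun x => by
    rw [incl_totMap, reassoc_of% (incl_totMap f x), incl_totMap, Category.assoc]

/-- Adjunct maps. -/
def toRes (a : tot g X ⟶ Y) : X ⟶ (res g).obj Y := ObjectProperty.homMk
  { app := fun T => ↾fun z => (AlgSp.J S').uliftYonedaEquiv.{u + 1}
      (incl g ((AlgSp.J S).uliftYonedaEquiv.symm z : (yon S).obj T.unop ⟶ X) ≫ a)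
    naturality := fun T₁ T₂ φ => by
      ext z
      show (AlgSp.J S').uliftYonedaEquiv (incl g ((AlgSp.J S).uliftYonedaEquiv.symm (X.obj.map φ z)) ≫ a) =
        Y.obj.map ((Over.map g).op.map φ) ((AlgSp.J S').uliftYonedaEquiv (incl g ((AlgSp.J S).uliftYonedaEquiv.symm z) ≫ a))
      rw [GrothendieckTopology.uliftYonedaEquiv_symm_map]
      refine Eq.trans ?_ ((AlgSp.J S').uliftYonedaEquiv_naturality' _ ((Over.map g).op.map φ)).symm
      congr 1
      exact ((congrArg (· ≫ a) (map_incl φ.unop _)).symm.trans (Category.assoc _ _ _)) }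

theorem homEquiv_comp_toRes (a : tot g X ⟶ Y) {T : Over S} (x : (yon S).obj T ⟶ X) :
    homEquiv T (x ≫ toRes a) = incl g x ≫ a := by
  apply (AlgSp.J S').uliftYonedaEquiv.injective
  rw [homEquiv_apply]
  refine ((AlgSp.J S).uliftYonedaEquiv_comp x (toRes a)).trans ?_
  show (AlgSp.J S').uliftYonedaEquiv (incl g ((AlgSp.J S).uliftYonedaEquiv.symm ((AlgSp.J S).uliftYonedaEquiv x)) ≫ a) = _
  rw [Equiv.symm_apply_apply]

/-- Adjunct maps in the other direction. -/
def fromRes (k : X ⟶ (res g).obj Y) : tot g X ⟶ Y :=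
  desc (fun x => homEquiv _ (x ≫ k)) fun b x => by rw [← homEquiv_naturality, Category.assoc]

theorem incl_fromRes (k : X ⟶ (res g).obj Y) {T : Over S} (x : (yon S).obj T ⟶ X) :
    incl g x ≫ fromRes k = homEquiv T (x ≫ k) :=
  incl_desc (fun x => homEquiv _ (x ≫ k)) (fun b x => by rw [← homEquiv_naturality, Category.assoc]) x

/-- The adjunction bijection. -/
def totHomEquiv : (tot g X ⟶ Y) ≃ (X ⟶ (res g).obj Y) where
  toFun := toRes
  invFun := fromRes
  left_inv a := hom_ext_incl fun x => by rw [incl_fromRes, homEquiv_comp_toRes]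
  right_inv k := (AlgSp.J S).hom_ext_uliftYoneda fun T x => (homEquiv T).injective (by
    rw [homEquiv_comp_toRes, incl_fromRes])

variable (g) in
/-- It is left adjoint to restriction. -/
def totAdj : totF g ⊣ res g :=
  Adjunction.mkOfHomEquiv
    { homEquiv := fun _ _ => totHomEquiv
      homEquiv_naturality_left_symm := fun {X' X Y} f k => hom_ext_incl fun x => by
        show incl g x ≫ fromRes (f ≫ k) = incl g x ≫ totMap f ≫ fromRes k
        rw [incl_fromRes, reassoc_of% (incl_totMap f x), incl_fromRes, Category.assoc]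
      homEquiv_naturality_right := fun {X Y Y'} a b => (AlgSp.J S).hom_ext_uliftYoneda fun T x =>
        (homEquiv T).injective (by
          show homEquiv T (x ≫ toRes (a ≫ b)) = homEquiv T (x ≫ toRes a ≫ (res g).map b)
          rw [homEquiv_comp_toRes, ← Category.assoc x, homEquiv_comp, homEquiv_comp_toRes, Category.assoc]) }

variable (g X) in
/-- The structure map. -/
def proj : tot g X ⟶ (yon S').obj (Over.mk g) :=
  desc (fun {T} _ => (yon S').map (strMap T)) fun b _ => by
    rw [← Functor.map_comp]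
    congr 1
    exact Over.OverMorphism.ext (Over.w b)

theorem incl_proj {T : Over S} (x : (yon S).obj T ⟶ X) : incl g x ≫ proj g X = (yon S').map (strMap T) :=
  incl_desc (fun {T} _ => (yon S').map (strMap T)) (fun b _ => by
    rw [← Functor.map_comp]
    congr 1
    exact Over.OverMorphism.ext (Over.w b)) x

variable (g X) in
/-- It has fibre `X`. -/
def totFibre : Fibre g (proj g X) X where
  ι x := incl g x
  nat b x := map_incl b x
  ι_π x := incl_proj x
  inj h := incl_injective h
  surj {T} z hz := by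
    obtain ⟨T₀, e, x₀, he⟩ := exists_incl z
    obtain ⟨b, hb⟩ := hom_left_eq_of_strMap e.inv ((yon S').map_injective (by
      rw [Functor.map_comp, ← incl_proj x₀, ← he, Category.assoc, hz, ← Category.assoc, ← Functor.map_comp,
        ← Functor.map_comp, e.inv_hom_id, Category.id_comp]))
    refine ⟨(yon S).map b ≫ x₀, ?_⟩
    rw [← map_incl, hb, ← he, ← Category.assoc, ← Functor.map_comp, e.inv_hom_id, CategoryTheory.Functor.map_id,
      Category.id_comp]

theorem totMap_proj (f : X ⟶ X') : totMap f ≫ proj g X' = proj g X :=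
  hom_ext_incl fun x => by rw [reassoc_of% (incl_totMap f x), incl_proj, incl_proj]

variable (g) in
/-- The space over the larger base. -/
abbrev totSp (F : Space S) : Space S' := ⟨tot g F.obj, (totFibre g F.obj).isAlgSpace F.property⟩

variable (g) in
/-- Its structure map. -/
def projSp (F : Space S) : totSp g F ⟶ (AlgSp.ofScheme S').obj (Over.mk g) :=
  ObjectProperty.homMk (X := totSp g F) (Y := (AlgSp.ofScheme S').obj (Over.mk g)) (proj g F.obj)

variable (g) in
/-- Spaces over the smaller base as spaces over it. -/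
def spaceF : Space S ⥤ Over ((AlgSp.ofScheme S').obj (Over.mk g)) where
  obj F := Over.mk (projSp g F)
  map {F F'} f := Over.homMk (ObjectProperty.homMk (totMap f.hom)) (ObjectProperty.hom_ext _ (totMap_proj f.hom))
  map_id F := Over.OverMorphism.ext (ObjectProperty.hom_ext _ ((totF g).map_id F.obj))
  map_comp f f' := Over.OverMorphism.ext (ObjectProperty.hom_ext _ ((totF g).map_comp f.hom f'.hom))

instance : (spaceF g).Faithful where
  map_injective {F F'} f f' h := by
    have h' : totMap (g := g) f.hom = totMap f'.hom := congrArg (fun m => m.left.hom) h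
    refine ObjectProperty.hom_ext _ ((AlgSp.J S).hom_ext_uliftYoneda fun T x => incl_injective (g := g) ?_)
    rw [← incl_totMap, ← incl_totMap, h']

instance : (spaceF g).Full where
  map_surjective {F F'} a := by
    have ha : a.left.hom ≫ proj g F'.obj = proj g F.obj := congrArg (fun m => m.hom) (Over.w a)
    choose ψ hψ using fun (T : Over S) (x : (yon S).obj T ⟶ F.obj) =>
      (totFibre g F'.obj).surj (incl g x ≫ a.left.hom)
        ((Category.assoc _ _ _).trans ((congrArg (incl g x ≫ ·) ha).trans (incl_proj x)))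
    have hψ' : ∀ {T : Over S} (x : (yon S).obj T ⟶ F.obj), incl g (ψ T x) = incl g x ≫ a.left.hom := fun x => hψ _ x
    let f : F.obj ⟶ F'.obj := ObjectProperty.homMk
      { app := fun T => ↾fun z => (AlgSp.J S).uliftYonedaEquiv.{u + 1}
          (ψ T.unop ((AlgSp.J S).uliftYonedaEquiv.symm z))
        naturality := fun T₁ T₂ φ => by
          ext z
          show (AlgSp.J S).uliftYonedaEquiv (ψ _ ((AlgSp.J S).uliftYonedaEquiv.symm (F.obj.obj.map φ z))) =
            F'.obj.obj.map φ ((AlgSp.J S).uliftYonedaEquiv (ψ _ ((AlgSp.J S).uliftYonedaEquiv.symm z)))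
          rw [GrothendieckTopology.uliftYonedaEquiv_symm_map, GrothendieckTopology.uliftYonedaEquiv_naturality']
          congr 1
          apply incl_injective (g := g)
          rw [hψ', ← map_incl, ← map_incl, hψ', Category.assoc] }
    refine ⟨ObjectProperty.homMk f, Over.OverMorphism.ext (ObjectProperty.hom_ext _ (hom_ext_incl fun {T} x => ?_))⟩
    show incl g x ≫ totMap f = _
    rw [incl_totMap, ← hψ']
    congr 1
    apply (AlgSp.J S).uliftYonedaEquiv.injective
    rw [GrothendieckTopology.uliftYonedaEquiv_comp]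
    show (AlgSp.J S).uliftYonedaEquiv (ψ T ((AlgSp.J S).uliftYonedaEquiv.symm ((AlgSp.J S).uliftYonedaEquiv x))) = _
    rw [Equiv.symm_apply_apply]

theorem exists_fibre {Y : Sp S'} (π : Y ⟶ (yon S').obj (Over.mk g)) :
    ∃ X : Sp S, Nonempty (Fibre g π X) ∧ (IsAlgSpace Y → IsAlgSpace X) := by
  let one : Over S := Over.mk (𝟙 S)
  have ht : IsTerminal ((yon S).obj one) := Over.mkIdTerminal.isTerminalObj (yon S) one
  let e : (Over.map g).obj one ⟶ Over.mk g := strMap one
  let δ : (yon S).obj one ⟶ (res g).obj ((yon S').obj (Over.mk g)) := (homEquiv one).symm ((yon S').map e)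
  have hδ : ∀ {T : Over S} (t : (yon S).obj T ⟶ (yon S).obj one), homEquiv T (t ≫ δ) = (yon S').map (strMap T) := by
    intro T t
    obtain ⟨t, rfl⟩ := (yon S).map_surjective t
    rw [homEquiv_naturality, Equiv.apply_symm_apply, ← Functor.map_comp]
    congr 1
    exact Over.OverMorphism.ext (Over.w t)
  refine ⟨pullback ((res g).map π) δ, ⟨
    { ι := fun {T} x => homEquiv T (x ≫ pullback.fst _ _)
      nat := fun b x => by rw [← homEquiv_naturality, Category.assoc]
      ι_π := fun {T} x => by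
        rw [← homEquiv_comp, Category.assoc, pullback.condition, ← Category.assoc, hδ]
      inj := fun {T x x'} h => pullback.hom_ext ((homEquiv T).injective h) (ht.hom_ext _ _)
      surj := fun {T} z hz => ⟨pullback.lift ((homEquiv T).symm z) (ht.from _)
        ((homEquiv T).injective (by rw [homEquiv_comp, Equiv.apply_symm_apply, hz, hδ])),
          by rw [pullback.lift_fst, Equiv.apply_symm_apply]⟩ }⟩, fun hY =>
    isAlgSpace_of_isPullback (isAlgSpace_res (IsAlgSpace.yon_obj (Over.mk g))).diag (isAlgSpace_res hY)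
      (IsAlgSpace.yon_obj one) (IsPullback.of_hasPullback _ _)⟩

theorem Fibre.exists_iso {π : Y ⟶ (yon S').obj (Over.mk g)} (D : Fibre g π X) :
    ∃ θ : tot g X ⟶ Y, IsIso θ ∧ θ ≫ π = proj g X := by
  let θ : tot g X ⟶ Y := desc (fun x => D.ι x) fun b x => D.nat b x
  have hθ : ∀ {T : Over S} (x : (yon S).obj T ⟶ X), incl g x ≫ θ = D.ι x := fun x => incl_desc _ _ x
  refine ⟨θ, UHPush.isIso_of_yon θ (fun Z k k' h => ?_) (fun Z y => ?_),
    hom_ext_incl fun x => by rw [reassoc_of% (hθ x), D.ι_π, incl_proj]⟩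
  · obtain ⟨T, e, x, hx⟩ := exists_incl k
    obtain ⟨x', hx'⟩ := (totFibre g X).surj ((yon S').map e.hom ≫ k') (by
      rw [Category.assoc, show k' ≫ proj g X = k ≫ proj g X by
        rw [← hom_ext_incl (a := θ ≫ π) (b := proj g X) fun x => by rw [reassoc_of% (hθ x), D.ι_π, incl_proj],
          reassoc_of% h], ← Category.assoc, hx, incl_proj])
    have hxx : x = x' := D.inj (by
      rw [← hθ, ← hθ, show incl g x' = (yon S').map e.hom ≫ k' from hx', ← hx, Category.assoc, Category.assoc, h])
    rw [← cancel_epi ((yon S').map e.hom), hx, hxx]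
    exact hx'
  · obtain ⟨T, e, x, hx⟩ := D.exists_eq y
    exact ⟨(yon S').map e.inv ≫ incl g x, by
      rw [Category.assoc, hθ, hx, ← Category.assoc, ← Functor.map_comp, e.inv_hom_id, CategoryTheory.Functor.map_id,
        Category.id_comp]⟩

instance : (spaceF g).EssSurj where
  mem_essImage B := by
    obtain ⟨X, ⟨D⟩, hX⟩ := exists_fibre (g := g) (Y := B.left.obj) B.hom.hom
    obtain ⟨θ, hθ, hw⟩ := D.exists_iso
    let e : (⟨tot g X, (totFibre g X).isAlgSpace (hX B.left.property)⟩ : Space S') ≅ B.left :=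
      (ObjectProperty.fullyFaithfulι _).preimageIso (@asIso _ _ _ _ θ hθ)
    exact ⟨⟨X, hX B.left.property⟩, ⟨Over.isoMk e (ObjectProperty.hom_ext _ hw)⟩⟩

instance : (spaceF g).IsEquivalence where

theorem exists_equivalence :
    ∃ E : AlgSp.Space S ≌ Over ((AlgSp.ofScheme S').obj (Over.mk g)),
      Nonempty (E.functor ⋙ Over.forget _ ⋙ ObjectProperty.ι (AlgSp.IsAlgSpace (S := S')) ≅
        ObjectProperty.ι (AlgSp.IsAlgSpace (S := S)) ⋙ ((Over.map g).sheafPullback (Type (u + 1)) (AlgSp.J S) (AlgSp.J S'))) := by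
  let κ : totF g ≅ (Over.map g).sheafPullback (Type (u + 1)) (AlgSp.J S) (AlgSp.J S') :=
    (totAdj g).leftAdjointUniq ((Over.map g).sheafAdjunctionContinuous (Type (u + 1)) (AlgSp.J S) (AlgSp.J S'))
  exact ⟨(spaceF g).asEquivalence, ⟨(NatIso.ofComponents (fun F => Iso.refl (tot g F.obj)) (fun f => by
    show totMap f.hom ≫ 𝟙 _ = 𝟙 _ ≫ totMap f.hom
    rw [Category.comp_id, Category.id_comp]) :
      (spaceF g).asEquivalence.functor ⋙ Over.forget _ ⋙ ObjectProperty.ι (AlgSp.IsAlgSpace (S := S')) ≅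
        ObjectProperty.ι (AlgSp.IsAlgSpace (S := S)) ⋙ totF g) ≪≫ Functor.isoWhiskerLeft _ κ⟩⟩

theorem pullback_facts :
    (∀ X : Over S, Nonempty ((((Over.map g).sheafPullback (Type (u + 1)) (AlgSp.J S) (AlgSp.J S')).obj
        ((AlgSp.yon S).obj X)).obj.RepresentableBy ((Over.map g).obj X))) ∧
      (∀ F : AlgSp.Space S, AlgSp.IsAlgSpace
        (((Over.map g).sheafPullback (Type (u + 1)) (AlgSp.J S) (AlgSp.J S')).obj F.obj)) := by
  let κ : totF g ≅ (Over.map g).sheafPullback (Type (u + 1)) (AlgSp.J S) (AlgSp.J S') :=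
    (totAdj g).leftAdjointUniq ((Over.map g).sheafAdjunctionContinuous (Type (u + 1)) (AlgSp.J S) (AlgSp.J S'))
  refine ⟨fun X => ?_, fun F => ((totFibre g F.obj).isAlgSpace F.property).of_iso (κ.app F.obj)⟩
  let θ : (yon S').obj ((Over.map g).obj X) ⟶ tot g ((yon S).obj X) := incl g (𝟙 _)
  haveI : IsIso θ := by
    refine UHPush.isIso_of_yon θ (fun Z k k' h => ?_) (fun Z y => ?_)
    · obtain ⟨k, rfl⟩ := (yon S').map_surjective k
      obtain ⟨k', rfl⟩ := (yon S').map_surjective k'
      obtain ⟨T, e, he⟩ := exists_source (k ≫ strMap X)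
      obtain ⟨l, hl⟩ := hom_left_eq_of_strMap (e.hom ≫ k) (by rw [Category.assoc, he])
      have hk : (yon S').map (e.hom ≫ k') ≫ θ = (yon S').map (e.hom ≫ k) ≫ θ := by
        rw [Functor.map_comp, Functor.map_comp, Category.assoc, Category.assoc, h]
      have hk' := congrArg (· ≫ proj g _) hk
      simp only [θ, Category.assoc, incl_proj, ← Functor.map_comp] at hk'
      obtain ⟨l', hl'⟩ := hom_left_eq_of_strMap (e.hom ≫ k') (by
        rw [Category.assoc]; exact ((yon S').map_injective hk').trans he)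
      rw [← hl, ← hl', map_incl, map_incl] at hk
      have hll := incl_injective hk
      rw [Category.comp_id, Category.comp_id] at hll
      congr 1
      rw [← cancel_epi e.hom, ← hl, ← hl', (yon S).map_injective hll]
    · obtain ⟨T, e, x, hx⟩ := exists_incl y
      obtain ⟨b, rfl⟩ := (yon S).map_surjective x
      refine ⟨(yon S').map (e.inv ≫ (Over.map g).map b), ?_⟩
      rw [Functor.map_comp, Category.assoc, map_incl, Category.comp_id, ← hx, ← Category.assoc, ← Functor.map_comp,
        e.inv_hom_id, CategoryTheory.Functor.map_id, Category.id_comp]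
  let i : (yon S').obj ((Over.map g).obj X) ≅
      ((Over.map g).sheafPullback (Type (u + 1)) (AlgSp.J S) (AlgSp.J S')).obj ((yon S).obj X) :=
    asIso θ ≪≫ κ.app _
  exact ⟨{
    homEquiv := fun {T} => (Functor.FullyFaithful.ofFullyFaithful (yon S')).homEquiv.trans
      (i.homToEquiv.trans (AlgSp.J S').uliftYonedaEquiv.{u + 1})
    homEquiv_comp := fun f k => by
      show (AlgSp.J S').uliftYonedaEquiv.{u + 1} ((yon S').map (f ≫ k) ≫ i.hom) = _
      rw [Functor.map_comp, Category.assoc]
      exact ((AlgSp.J S').uliftYonedaEquiv_naturality ((yon S').map k ≫ i.hom) f).symm }⟩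

end Groth.L09.OverMapSp
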