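import Groth.Agent.L09.OverMapSp.Tot

/-!
# Sheaves over the larger base fibred over the smaller one
-/

universe u

open CategoryTheory CategoryTheory.Limits AlgebraicGeometry Opposite AlgSp

set_option autoImplicit false
set_option linter.style.haveILetI false
set_option backward.isDefEq.respectTransparency false
set_option backward.isDefEq.respectTransparency.types false

noncomputable section

namespace Groth.L09.OverMapSp

open Groth.L23

variable {S S' : Scheme.{u}} (g : S ⟶ S')

/-- `X` is the fibre of `π : Y ⟶ h_S`. -/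
structure Fibre {Y : Sp S'} (π : Y ⟶ (yon S').obj (Over.mk g)) (X : Sp S) where
  ι : ∀ {T : Over S}, ((yon S).obj T ⟶ X) → ((yon S').obj ((Over.map g).obj T) ⟶ Y)
  nat : ∀ {T T₀ : Over S} (b : T ⟶ T₀) (x : (yon S).obj T₀ ⟶ X),
    (yon S').map ((Over.map g).map b) ≫ ι x = ι ((yon S).map b ≫ x)
  ι_π : ∀ {T : Over S} (x : (yon S).obj T ⟶ X), ι x ≫ π = (yon S').map (strMap T)
  inj : ∀ {T : Over S} {x x' : (yon S).obj T ⟶ X}, ι x = ι x' → x = x'
  surj : ∀ {T : Over S} (z : (yon S').obj ((Over.map g).obj T) ⟶ Y),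
    z ≫ π = (yon S').map (strMap T) → ∃ x, ι x = z

variable {g} {Y : Sp S'} {π : Y ⟶ (yon S').obj (Over.mk g)} {X : Sp S}

namespace Fibre

variable (D : Fibre g π X)

theorem exists_eq {T' : Over S'} (z : (yon S').obj T' ⟶ Y) :
    ∃ (T : Over S) (e : (Over.map g).obj T ≅ T') (x : (yon S).obj T ⟶ X),
      D.ι x = (yon S').map e.hom ≫ z := by
  obtain ⟨s, hs⟩ := (yon S').map_surjective (z ≫ π)
  obtain ⟨T, e, he⟩ := exists_source s
  obtain ⟨x, hx⟩ := D.surj ((yon S').map e.hom ≫ z) (by rw [Category.assoc, ← hs, ← Functor.map_comp, he])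
  exact ⟨T, e, x, hx⟩

/-- The fibre of a scheme chart is a chart. -/
theorem repWith_ι (P : MorphismProperty Scheme.{u}) [P.IsStableUnderBaseChange] {U : Over S}
    {p : (yon S).obj U ⟶ X} (hp : RepWith P p) : RepWith P (D.ι p) := by
  have key : ∀ (T' : Over S') (z : (yon S').obj T' ⟶ Y),
      ∃ (W : Over S') (i : W ⟶ T') (fst : (yon S').obj W ⟶ (yon S').obj ((Over.map g).obj U)),
        IsPullback fst ((yon S').map i) (D.ι p) z ∧ P i.left := by
    intro T' z
    obtain ⟨T, e, x, hz⟩ := D.exists_eq z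
    obtain ⟨W, a, i, sq⟩ : ∃ (W : Over S) (a : W ⟶ U) (i : W ⟶ T),
        IsPullback ((yon S).map a) ((yon S).map i) p x := by
      obtain ⟨W, a, i, sq⟩ := exists_isPullback_of_representable hp.1 x
      exact ⟨W, a, i, sq⟩
    have hi : P i.left := repWith_prop hp sq
    refine ⟨(Over.map g).obj W, (Over.map g).map i ≫ e.hom, (yon S').map ((Over.map g).map a),
      Groth.L23.UHPush.isPullback_of_yon ?_ ?_ ?_, ?_⟩
    · rw [D.nat, sq.w, ← D.nat, hz, Functor.map_comp, Category.assoc]
    · intro Z k k' h₁ h₂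
      obtain ⟨k, rfl⟩ := (yon S').map_surjective k
      obtain ⟨k', rfl⟩ := (yon S').map_surjective k'
      have h₁' : k ≫ (Over.map g).map a = k' ≫ (Over.map g).map a :=
        (yon S').map_injective (by rw [Functor.map_comp, Functor.map_comp]; exact h₁)
      have h₂' : k ≫ (Over.map g).map i = k' ≫ (Over.map g).map i := (cancel_mono e.hom).1
        ((Category.assoc _ _ _).trans (((yon S').map_injective (by rw [Functor.map_comp, Functor.map_comp]; exact h₂)).trans
          (Category.assoc _ _ _).symm))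
      obtain ⟨Z₀, eZ, hZ⟩ := exists_source (k ≫ strMap W)
      obtain ⟨l, hl⟩ := hom_left_eq_of_strMap (eZ.hom ≫ k) (by rw [Category.assoc, hZ])
      have hs : (Over.map g).map i ≫ strMap T = strMap (g := g) W := Over.OverMorphism.ext (Over.w i)
      obtain ⟨l', hl'⟩ := hom_left_eq_of_strMap (eZ.hom ≫ k') (by
        rw [Category.assoc, ← hs, ← Category.assoc k', ← h₂', Category.assoc, hs, hZ])
      have : l = l' := (yon S).map_injective (sq.hom_ext
        (by rw [← Functor.map_comp, ← Functor.map_comp]; congr 1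
            exact map_injective (g := g) (by rw [Functor.map_comp, Functor.map_comp, hl, hl', Category.assoc, Category.assoc, h₁']))
        (by rw [← Functor.map_comp, ← Functor.map_comp]; congr 1
            exact map_injective (g := g) (by rw [Functor.map_comp, Functor.map_comp, hl, hl', Category.assoc, Category.assoc, h₂'])))
      have hk : eZ.hom ≫ k = eZ.hom ≫ k' := by rw [← hl, ← hl', this]
      rw [(cancel_epi eZ.hom).1 hk]
    · intro Z u v huv
      obtain ⟨u, rfl⟩ := (yon S').map_surjective u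
      obtain ⟨v, rfl⟩ := (yon S').map_surjective v
      obtain ⟨Z₀, eZ, hZ⟩ := exists_source (u ≫ strMap U)
      obtain ⟨m, hm⟩ := hom_left_eq_of_strMap (eZ.hom ≫ u) (by rw [Category.assoc, hZ])
      have h1 : (yon S').map ((Over.map g).map m) ≫ D.ι p =
          (yon S').map (eZ.hom ≫ v ≫ e.inv) ≫ D.ι x := by
        rw [hm, hz, Functor.map_comp, Category.assoc, huv, Functor.map_comp, Category.assoc]
        congr 1
        rw [← Category.assoc, ← Functor.map_comp, Category.assoc, e.inv_hom_id, Category.comp_id]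
      obtain ⟨n, hn⟩ := hom_left_eq_of_strMap (eZ.hom ≫ v ≫ e.inv) ((yon S').map_injective (by
        have h2 := congrArg (· ≫ π) h1
        simp only [Category.assoc, D.ι_π, ← Functor.map_comp] at h2
        simp only [Category.assoc]
        rw [← h2]
        exact congrArg _ (Over.OverMorphism.ext (Over.w m))))
      rw [← hn, D.nat, D.nat] at h1
      obtain ⟨l, hl⟩ := (yon S).map_surjective (sq.lift ((yon S).map m) ((yon S).map n) (D.inj h1))
      have hla : l ≫ a = m := (yon S).map_injective (by rw [Functor.map_comp, hl, sq.lift_fst])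
      have hli : l ≫ i = n := (yon S).map_injective (by rw [Functor.map_comp, hl, sq.lift_snd])
      refine ⟨(yon S').map (eZ.inv ≫ (Over.map g).map l), ?_, ?_⟩
      · rw [← Functor.map_comp]
        congr 1
        rw [Category.assoc, ← Functor.map_comp, hla, hm, eZ.inv_hom_id_assoc]
      · rw [← Functor.map_comp]
        congr 1
        rw [Category.assoc, ← Category.assoc ((Over.map g).map l), ← Functor.map_comp, hli, hn]
        simp
    · haveI : IsIso e.hom.left := inferInstanceAs (IsIso ((Over.forget S').map e.hom))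
      exact (MorphismProperty.cancel_right_of_respectsIso P _ _).2 hi
  have hrep : Representable (D.ι p) := fun T' z => by
    obtain ⟨W, i, fst, sq, -⟩ := key T' z
    exact ⟨W, i, fst, sq⟩
  refine repWith_of_snd hrep fun T' z => ?_
  obtain ⟨W, i, fst, sq, hi⟩ := key T' z
  obtain ⟨k, hk⟩ := (yon S').map_surjective ((hrep.isPullback z).isoIsPullback _ _ sq).hom
  haveI : IsIso ((yon S').map k) := by rw [hk]; infer_instance
  haveI : IsIso k := isIso_of_fully_faithful (yon S') k
  have hki : k ≫ i = hrep.snd z := (yon S').map_injective (by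
    rw [Functor.map_comp, hk, IsPullback.isoIsPullback_hom_snd])
  rw [← hki, Over.comp_left]
  exact (MorphismProperty.cancel_left_of_respectsIso P _ _).2 hi

include D in
theorem representable_diag (h : IsAlgSpace X) : Representable (Limits.diag Y) := fun T' z => by
  let z₁ := z ≫ prod.fst
  let z₂ := z ≫ prod.snd
  obtain ⟨s₁, hs₁⟩ := (yon S').map_surjective (z₁ ≫ π)
  obtain ⟨s₂, hs₂⟩ := (yon S').map_surjective (z₂ ≫ π)
  let E := equalizer s₁ s₂
  let ι : E ⟶ T' := equalizer.ι s₁ s₂
  obtain ⟨T, e, he⟩ := exists_source (ι ≫ s₁)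
  obtain ⟨x₁, hx₁⟩ := D.surj ((yon S').map (e.hom ≫ ι) ≫ z₁) (by
    rw [Category.assoc, ← hs₁, ← Functor.map_comp, Category.assoc, he])
  obtain ⟨x₂, hx₂⟩ := D.surj ((yon S').map (e.hom ≫ ι) ≫ z₂) (by
    rw [Category.assoc, ← hs₂, ← Functor.map_comp, Category.assoc, ← equalizer.condition s₁ s₂, he])
  obtain ⟨W, q, fst, sq⟩ : ∃ (W : Over S) (q : W ⟶ T) (fst : (yon S).obj W ⟶ X),
      IsPullback fst ((yon S).map q) (Limits.diag _) (prod.lift x₁ x₂) :=
    ⟨_, _, _, h.diag.isPullback _⟩
  have hq : (yon S).map q ≫ x₁ = (yon S).map q ≫ x₂ := by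
    have h1 := sq.w =≫ prod.fst
    have h2 := sq.w =≫ prod.snd
    simp only [Category.assoc, prod.lift_fst, prod.lift_snd, Category.comp_id] at h1 h2
    rw [← h1, ← h2]
  refine ⟨(Over.map g).obj W, (Over.map g).map q ≫ e.hom ≫ ι,
    (yon S').map ((Over.map g).map q ≫ e.hom ≫ ι) ≫ z₁, Groth.L23.UHPush.isPullback_of_yon ?_ ?_ ?_⟩
  · refine prod.hom_ext ?_ ?_
    · simp only [Category.assoc, prod.lift_fst, Category.comp_id]; rfl
    · simp only [Category.assoc, prod.lift_snd, Category.comp_id]
      have h3 : (yon S').map ((Over.map g).map q) ≫ D.ι x₁ =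
          (yon S').map ((Over.map g).map q) ≫ D.ι x₂ := by rw [D.nat, D.nat, hq]
      rw [hx₁, hx₂, ← Category.assoc, ← Category.assoc, ← Functor.map_comp] at h3
      exact h3
  · intro Z k k' _ h₂
    obtain ⟨k, rfl⟩ := (yon S').map_surjective k
    obtain ⟨k', rfl⟩ := (yon S').map_surjective k'
    congr 1
    have h₂' : k ≫ (Over.map g).map q = k' ≫ (Over.map g).map q := by
      rw [← cancel_mono e.hom, ← cancel_mono ι]
      simp only [Category.assoc]
      exact (yon S').map_injective (by simpa only [← Functor.map_comp] using h₂)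
    obtain ⟨Z₀, eZ, hZ⟩ := exists_source (k ≫ strMap W)
    have hs : (Over.map g).map q ≫ strMap T = strMap (g := g) W := Over.OverMorphism.ext (Over.w q)
    obtain ⟨l, hl⟩ := hom_left_eq_of_strMap (eZ.hom ≫ k) (by rw [Category.assoc, hZ])
    obtain ⟨l', hl'⟩ := hom_left_eq_of_strMap (eZ.hom ≫ k') (by
      rw [Category.assoc, ← hs, ← Category.assoc k', ← h₂', Category.assoc, hs, hZ])
    have hlq : l ≫ q = l' ≫ q := map_injective (g := g) (by
      rw [Functor.map_comp, Functor.map_comp, hl, hl', Category.assoc, Category.assoc, h₂'])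
    have : (yon S).map l = (yon S).map l' := sq.hom_ext
      ((cancel_mono (Limits.diag X)).1 (by
        rw [Category.assoc, Category.assoc, sq.w, ← Category.assoc, ← Category.assoc, ← Functor.map_comp,
          ← Functor.map_comp, hlq]))
      (by rw [← Functor.map_comp, ← Functor.map_comp, hlq])
    rw [← cancel_epi eZ.hom, ← hl, ← hl', (yon S).map_injective this]
  · intro Z u v huv
    obtain ⟨v, rfl⟩ := (yon S').map_surjective v
    have hu₁ : u = (yon S').map v ≫ z₁ := by
      have h1 := huv =≫ prod.fst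
      rwa [Category.assoc, Category.assoc, prod.lift_fst, Category.comp_id] at h1
    have hu₂ : u = (yon S').map v ≫ z₂ := by
      have h1 := huv =≫ prod.snd
      rwa [Category.assoc, Category.assoc, prod.lift_snd, Category.comp_id] at h1
    have hv : v ≫ s₁ = v ≫ s₂ := (yon S').map_injective (by
      rw [Functor.map_comp, Functor.map_comp, hs₁, hs₂]
      exact (Category.assoc _ _ _).symm.trans ((congrArg (· ≫ π) (hu₁.symm.trans hu₂)).trans (Category.assoc _ _ _)))
    let v₀ : Z ⟶ E := equalizer.lift v hv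
    have hv₀ : v₀ ≫ ι = v := equalizer.lift_ι _ _
    obtain ⟨Z₀, eZ, hZ⟩ := exists_source (v ≫ s₁)
    obtain ⟨m, hm⟩ := hom_left_eq_of_strMap (eZ.hom ≫ v₀ ≫ e.inv) (by
      rw [← he, Category.assoc, Category.assoc, e.inv_hom_id_assoc, reassoc_of% hv₀, hZ])
    have hmx : ∀ (w : (yon S').obj T' ⟶ Y) (x : (yon S).obj T ⟶ X),
        D.ι x = (yon S').map (e.hom ≫ ι) ≫ w →
        D.ι ((yon S).map m ≫ x) = (yon S').map (eZ.hom ≫ v) ≫ w := fun w x hw => by
      rw [← D.nat, hw, ← Category.assoc, ← Functor.map_comp, hm]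
      simp [hv₀]
    have hmm : D.ι ((yon S).map m ≫ x₁) = D.ι ((yon S).map m ≫ x₂) := by
      rw [hmx z₁ x₁ hx₁, hmx z₂ x₂ hx₂, Functor.map_comp, Category.assoc, Category.assoc, ← hu₁, ← hu₂]
    have hxx : (yon S).map m ≫ x₁ = (yon S).map m ≫ x₂ := D.inj hmm
    obtain ⟨l, hl⟩ := (yon S).map_surjective (sq.lift ((yon S).map m ≫ x₁) ((yon S).map m) (by
      refine prod.hom_ext ?_ ?_
      · simp
      · simpa using hxx))
    have hlq : l ≫ q = m := (yon S).map_injective (by rw [Functor.map_comp, hl, sq.lift_snd])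
    have hfac : (eZ.inv ≫ (Over.map g).map l) ≫ (Over.map g).map q ≫ e.hom ≫ ι = v := by
      rw [Category.assoc, ← Category.assoc ((Over.map g).map l), ← Functor.map_comp, hlq, hm]
      simp [hv₀]
    refine ⟨(yon S').map (eZ.inv ≫ (Over.map g).map l), ?_, by rw [← Functor.map_comp, hfac]⟩
    rw [← Category.assoc, ← Functor.map_comp, hfac, hu₁]

include D in
theorem isAlgSpace (h : IsAlgSpace X) : IsAlgSpace Y := by
  refine ⟨D.representable_diag h, ?_⟩
  obtain ⟨U, p, hp, hps⟩ := h.atlas
  exact ⟨(Over.map g).obj U, D.ι p, D.repWith_ι _ hp, D.repWith_ι _ hps⟩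

end Fibre

end Groth.L09.OverMapSp
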