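import Groth.Agent.L09.OverMapSp.Space
import Groth.Agent.L23.AlgSpace

/-!
# Restricted sheaves and products with the smaller base
-/

universe u

open CategoryTheory CategoryTheory.Limits AlgebraicGeometry Opposite AlgSp

set_option autoImplicit false
set_option linter.style.haveILetI false
set_option backward.isDefEq.respectTransparency false
set_option backward.isDefEq.respectTransparency.types false

noncomputable section

namespace Groth.L09.OverMapSp

open Groth.L23

variable {S S' : Scheme.{u}} {g : S ⟶ S'} {F' : Sp S'}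

theorem isAlgSpace_res_of_prod (h : IsAlgSpace ((yon S').obj (Over.mk g) ⨯ F')) :
    IsAlgSpace ((res g).obj F') := by
  let A : Sp S' := (yon S').obj (Over.mk g)
  let one : Over S := Over.mk (𝟙 S)
  let t : ∀ Z : Over S, Z ⟶ one := fun Z => Over.homMk Z.hom (Category.comp_id _)
  have ht : IsTerminal ((yon S).obj one) := Over.mkIdTerminal.isTerminalObj (yon S) one
  let e : (Over.map g).obj one ⟶ Over.mk g := Over.homMk (𝟙 S) (by simp [one])
  let δ : (yon S).obj one ⟶ (res g).obj A := (homEquiv one).symm ((yon S').map e)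
  haveI : IsIso (prodComparison (res g) A F') := inferInstance
  let fst : (res g).obj F' ⟶ (res g).obj (A ⨯ F') :=
    prod.lift (ht.from _ ≫ δ) (𝟙 _) ≫ inv (prodComparison (res g) A F')
  have hfst₁ : fst ≫ (res g).map prod.fst = ht.from _ ≫ δ := by simp [fst, inv_prodComparison_map_fst]
  have hfst₂ : fst ≫ (res g).map prod.snd = 𝟙 _ := by simp [fst, inv_prodComparison_map_snd]
  have sq : IsPullback fst (ht.from _) ((res g).map (prod.fst : A ⨯ F' ⟶ A)) δ :=
    IsPullback.mk' hfst₁
      (fun R a b h _ => by simpa [hfst₂] using congrArg (· ≫ (res g).map prod.snd) h)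
      (fun R a b h => ⟨a ≫ (res g).map prod.snd, by
        rw [← cancel_mono (prodComparison (res g) A F')]
        refine prod.hom_ext ?_ ?_
        · simp only [Category.assoc, prodComparison_fst, hfst₁, h]
          rw [← Category.assoc, ← Category.assoc]
          exact congrArg (· ≫ δ) (ht.hom_ext _ _)
        · simp only [Category.assoc, prodComparison_snd, hfst₂, Category.comp_id], ht.hom_ext _ _⟩)
  exact isAlgSpace_of_isPullback (isAlgSpace_res (IsAlgSpace.yon_obj (Over.mk g))).diag (isAlgSpace_res h)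
    (IsAlgSpace.yon_obj one) sq

/-- The structure morphism of a scheme over the smaller base. -/
abbrev strMap (T : Over S) : (Over.map g).obj T ⟶ Over.mk g := Over.homMk T.hom rfl

theorem exists_source {T' : Over S'} (s : T' ⟶ Over.mk g) :
    ∃ (T : Over S) (e : (Over.map g).obj T ≅ T'), e.hom ≫ s = strMap T :=
  ⟨Over.mk s.left, Over.isoMk (Iso.refl _) ((Category.id_comp _).trans (Over.w s).symm),
    Over.OverMorphism.ext (Category.id_comp _)⟩

theorem hom_left_eq_of_strMap {T T₀ : Over S} (a : (Over.map g).obj T ⟶ (Over.map g).obj T₀)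
    (h : a ≫ strMap T₀ = strMap T) : ∃ b : T ⟶ T₀, (Over.map g).map b = a :=
  exists_over_hom a (congrArg CommaMorphism.left h)

/-- A map into the product over a given point of the smaller base. -/
def pairMap {T : Over S} (x : (yon S).obj T ⟶ (res g).obj F') :
    (yon S').obj ((Over.map g).obj T) ⟶ (yon S').obj (Over.mk g) ⨯ F' :=
  prod.lift ((yon S').map (strMap T)) (homEquiv T x)

theorem map_pairMap {T T₀ : Over S} (b : T ⟶ T₀) (x : (yon S).obj T₀ ⟶ (res g).obj F') :
    (yon S').map ((Over.map g).map b) ≫ pairMap x = pairMap ((yon S).map b ≫ x) := by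
  have h : (Over.map g).map b ≫ strMap T₀ = strMap (g := g) T := Over.OverMorphism.ext (Over.w b)
  ext
  · simp only [pairMap, Category.assoc, prod.lift_fst, ← Functor.map_comp, h]
  · simp only [pairMap, Category.assoc, prod.lift_snd, homEquiv_naturality]

theorem exists_eq_pairMap {T' : Over S'} (z : (yon S').obj T' ⟶ (yon S').obj (Over.mk g) ⨯ F') :
    ∃ (T : Over S) (e : (Over.map g).obj T ≅ T') (x : (yon S).obj T ⟶ (res g).obj F'),
      (yon S').map e.hom ≫ z = pairMap x := by
  obtain ⟨s, hs⟩ := (yon S').map_surjective (z ≫ prod.fst)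
  obtain ⟨T, e, he⟩ := exists_source s
  refine ⟨T, e, (homEquiv T).symm ((yon S').map e.hom ≫ z ≫ prod.snd), ?_⟩
  ext
  · simp only [pairMap, Category.assoc, prod.lift_fst, ← hs, ← Functor.map_comp, he]
  · simp only [pairMap, Category.assoc, prod.lift_snd, Equiv.apply_symm_apply]

theorem repWith_pairMap (P : MorphismProperty Scheme.{u}) [P.IsStableUnderBaseChange] {U : Over S}
    {p : (yon S).obj U ⟶ (res g).obj F'} (hp : RepWith P p) : RepWith P (pairMap p) := by
  have key : ∀ (T' : Over S') (z : (yon S').obj T' ⟶ (yon S').obj (Over.mk g) ⨯ F'),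
      ∃ (W : Over S') (i : W ⟶ T') (fst : (yon S').obj W ⟶ (yon S').obj ((Over.map g).obj U)),
        IsPullback fst ((yon S').map i) (pairMap p) z ∧ P i.left := by
    intro T' z
    obtain ⟨T, e, x, hx⟩ := exists_eq_pairMap z
    obtain ⟨W, a, i, sq⟩ : ∃ (W : Over S) (a : W ⟶ U) (i : W ⟶ T),
        IsPullback ((yon S).map a) ((yon S).map i) p x := by
      obtain ⟨W, a, i, sq⟩ := exists_isPullback_of_representable hp.1 x
      exact ⟨W, a, i, sq⟩
    have hi : P i.left := repWith_prop hp sq
    have hz : pairMap x = (yon S').map e.hom ≫ z := hx.symm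
    refine ⟨(Over.map g).obj W, (Over.map g).map i ≫ e.hom, (yon S').map ((Over.map g).map a),
      Groth.L23.UHPush.isPullback_of_yon ?_ ?_ ?_, ?_⟩
    · rw [map_pairMap, sq.w, ← map_pairMap, hz, Functor.map_comp, Category.assoc]
    · intro Z k k' h₁ h₂
      obtain ⟨k, rfl⟩ := (yon S').map_surjective k
      obtain ⟨k', rfl⟩ := (yon S').map_surjective k'
      have h₁' : k ≫ (Over.map g).map a = k' ≫ (Over.map g).map a :=
        (yon S').map_injective (by rw [Functor.map_comp, Functor.map_comp]; exact h₁)
      have h₂' : k ≫ (Over.map g).map i = k' ≫ (Over.map g).map i := (cancel_mono e.hom).1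
        ((Category.assoc _ _ _).trans (((yon S').map_injective (by rw [Functor.map_comp, Functor.map_comp]; exact h₂)).trans
          (Category.assoc _ _ _).symm))
      obtain ⟨Z₀, eZ, hZ⟩ := exists_source (k ≫ strMap W)
      obtain ⟨l, hl⟩ := hom_left_eq_of_strMap (eZ.hom ≫ k) (by rw [Category.assoc, hZ])
      obtain ⟨l', hl'⟩ := hom_left_eq_of_strMap (eZ.hom ≫ k') (by
        have hs : ∀ m : W ⟶ T, (Over.map g).map m ≫ strMap T = strMap (g := g) W :=
          fun m => Over.OverMorphism.ext (Over.w m)
        rw [Category.assoc, ← hs i, ← Category.assoc k', ← h₂', Category.assoc, hs i, hZ])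
      have : l = l' := (yon S).map_injective (sq.hom_ext
        (by rw [← Functor.map_comp, ← Functor.map_comp]; congr 1
            exact map_injective (g := g) (by rw [Functor.map_comp, Functor.map_comp, hl, hl', Category.assoc, Category.assoc, h₁']))
        (by rw [← Functor.map_comp, ← Functor.map_comp]; congr 1
            exact map_injective (g := g) (by rw [Functor.map_comp, Functor.map_comp, hl, hl', Category.assoc, Category.assoc, h₂'])))
      rw [← cancel_epi eZ.hom] at *
      have hk : eZ.hom ≫ k = eZ.hom ≫ k' := by rw [← hl, ← hl', this]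
      rw [(cancel_epi eZ.hom).1 hk]
    · intro Z u v huv
      obtain ⟨u, rfl⟩ := (yon S').map_surjective u
      obtain ⟨v, rfl⟩ := (yon S').map_surjective v
      obtain ⟨Z₀, eZ, hZ⟩ := exists_source (u ≫ strMap U)
      obtain ⟨m, hm⟩ := hom_left_eq_of_strMap (eZ.hom ≫ u) (by rw [Category.assoc, hZ])
      have h1 : (yon S').map ((Over.map g).map m) ≫ pairMap p =
          (yon S').map (eZ.hom ≫ v ≫ e.inv) ≫ pairMap x := by
        rw [hm, hz, Functor.map_comp, Category.assoc, huv, Functor.map_comp, Category.assoc]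
        congr 1
        rw [← Category.assoc, ← Functor.map_comp, Category.assoc, e.inv_hom_id, Category.comp_id]
      obtain ⟨n, hn⟩ := hom_left_eq_of_strMap (eZ.hom ≫ v ≫ e.inv) ((yon S').map_injective (by
        have h2 := congrArg (· ≫ prod.fst) h1
        simp only [pairMap, Category.assoc, prod.lift_fst, ← Functor.map_comp] at h2
        simp only [Category.assoc]
        rw [← h2]
        exact congrArg _ (Over.OverMorphism.ext (Over.w m))))
      rw [← hn, map_pairMap, map_pairMap] at h1
      obtain ⟨l, hl⟩ := (yon S).map_surjective (sq.lift ((yon S).map m) ((yon S).map n)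
        ((homEquiv Z₀).injective (by simpa [pairMap] using congrArg (· ≫ prod.snd) h1)))
      have hla : l ≫ a = m := (yon S).map_injective (by rw [Functor.map_comp, hl, sq.lift_fst])
      have hli : l ≫ i = n := (yon S).map_injective (by rw [Functor.map_comp, hl, sq.lift_snd])
      refine ⟨(yon S').map (eZ.inv ≫ (Over.map g).map l), ?_, ?_⟩
      · rw [← Functor.map_comp]
        congr 1
        rw [Category.assoc, ← Functor.map_comp, hla, hm, eZ.inv_hom_id_assoc]
      · rw [← Functor.map_comp]
        congr 1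
        rw [Category.assoc, ← Category.assoc ((Over.map g).map l), ← Functor.map_comp, hli, hn]
        simp
    · haveI : IsIso e.hom.left := inferInstanceAs (IsIso ((Over.forget S').map e.hom))
      exact (MorphismProperty.cancel_right_of_respectsIso P _ _).2 hi
  have hrep : Representable (pairMap p) := fun T' z => by
    obtain ⟨W, i, fst, sq, -⟩ := key T' z
    exact ⟨W, i, fst, sq⟩
  refine repWith_of_snd hrep fun T' z => ?_
  obtain ⟨W, i, fst, sq, hi⟩ := key T' z
  obtain ⟨k, hk⟩ := (yon S').map_surjective ((hrep.isPullback z).isoIsPullback _ _ sq).hom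
  haveI : IsIso ((yon S').map k) := by rw [hk]; infer_instance
  haveI : IsIso k := isIso_of_fully_faithful (yon S') k
  have hki : k ≫ i = hrep.snd z := (yon S').map_injective (by
    rw [Functor.map_comp, hk, IsPullback.isoIsPullback_hom_snd])
  rw [← hki, Over.comp_left]
  exact (MorphismProperty.cancel_left_of_respectsIso P _ _).2 hi

theorem representable_diag_prod (h : IsAlgSpace ((res g).obj F')) :
    Representable (Limits.diag ((yon S').obj (Over.mk g) ⨯ F')) := fun T' z => by
  let z₁ := z ≫ prod.fst
  let z₂ := z ≫ prod.snd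
  obtain ⟨s₁, hs₁⟩ := (yon S').map_surjective (z₁ ≫ prod.fst)
  obtain ⟨s₂, hs₂⟩ := (yon S').map_surjective (z₂ ≫ prod.fst)
  let E := equalizer s₁ s₂
  let ι : E ⟶ T' := equalizer.ι s₁ s₂
  obtain ⟨T, e, he⟩ := exists_source (ι ≫ s₁)
  let x : ∀ w : (yon S').obj T' ⟶ (yon S').obj (Over.mk g) ⨯ F', (yon S).obj T ⟶ (res g).obj F' :=
    fun w => (homEquiv T).symm ((yon S').map (e.hom ≫ ι) ≫ w ≫ prod.snd)
  have hx : ∀ w s, (yon S').map s = w ≫ prod.fst → ι ≫ s = ι ≫ s₁ →
      pairMap (x w) = (yon S').map (e.hom ≫ ι) ≫ w := by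
    intro w s hs hι
    ext
    · simp only [pairMap, prod.lift_fst, Category.assoc, ← hs, ← Functor.map_comp, hι, he]
    · simp only [pairMap, prod.lift_snd, Category.assoc, x, Equiv.apply_symm_apply]
  have hx₁ := hx z₁ s₁ hs₁ rfl
  have hx₂ := hx z₂ s₂ hs₂ (equalizer.condition s₁ s₂).symm
  obtain ⟨W, q, fst, sq⟩ : ∃ (W : Over S) (q : W ⟶ T) (fst : (yon S).obj W ⟶ (res g).obj F'),
      IsPullback fst ((yon S).map q) (Limits.diag _) (prod.lift (x z₁) (x z₂)) :=
    ⟨_, _, _, h.diag.isPullback _⟩
  have hq : (yon S).map q ≫ x z₁ = (yon S).map q ≫ x z₂ := by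
    have h1 := sq.w =≫ prod.fst
    have h2 := sq.w =≫ prod.snd
    simp only [Category.assoc, prod.lift_fst, prod.lift_snd, Category.comp_id] at h1 h2
    rw [← h1, ← h2]
  refine ⟨(Over.map g).obj W, (Over.map g).map q ≫ e.hom ≫ ι,
    (yon S').map ((Over.map g).map q ≫ e.hom ≫ ι) ≫ z₁, Groth.L23.UHPush.isPullback_of_yon ?_ ?_ ?_⟩
  · refine prod.hom_ext ?_ ?_
    · simp only [Category.assoc, prod.lift_fst, Category.comp_id]; rfl
    · simp only [Category.assoc, prod.lift_snd, Category.comp_id]
      have h3 : (yon S').map ((Over.map g).map q) ≫ pairMap (x z₁) =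
          (yon S').map ((Over.map g).map q) ≫ pairMap (x z₂) := by rw [map_pairMap, map_pairMap, hq]
      rw [hx₁, hx₂, ← Category.assoc, ← Category.assoc, ← Functor.map_comp] at h3
      exact h3
  · intro Z k k' _ h₂
    obtain ⟨k, rfl⟩ := (yon S').map_surjective k
    obtain ⟨k', rfl⟩ := (yon S').map_surjective k'
    congr 1
    have h₂' : k ≫ (Over.map g).map q = k' ≫ (Over.map g).map q := by
      rw [← cancel_mono e.hom, ← cancel_mono ι]
      simp only [Category.assoc]
      exact (yon S').map_injective (by simpa only [← Functor.map_comp] using h₂)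
    obtain ⟨Z₀, eZ, hZ⟩ := exists_source (k ≫ strMap W)
    have hs : (Over.map g).map q ≫ strMap T = strMap (g := g) W := Over.OverMorphism.ext (Over.w q)
    obtain ⟨l, hl⟩ := hom_left_eq_of_strMap (eZ.hom ≫ k) (by rw [Category.assoc, hZ])
    obtain ⟨l', hl'⟩ := hom_left_eq_of_strMap (eZ.hom ≫ k') (by
      rw [Category.assoc, ← hs, ← Category.assoc k', ← h₂', Category.assoc, hs, hZ])
    have hlq : l ≫ q = l' ≫ q := map_injective (g := g) (by
      rw [Functor.map_comp, Functor.map_comp, hl, hl', Category.assoc, Category.assoc, h₂'])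
    haveI : Mono (Limits.diag ((res g).obj F')) := inferInstance
    have : (yon S).map l = (yon S).map l' := sq.hom_ext
      ((cancel_mono (Limits.diag ((res g).obj F'))).1 (by
        rw [Category.assoc, Category.assoc, sq.w, ← Category.assoc, ← Category.assoc, ← Functor.map_comp,
          ← Functor.map_comp, hlq]))
      (by rw [← Functor.map_comp, ← Functor.map_comp, hlq])
    rw [← cancel_epi eZ.hom, ← hl, ← hl', (yon S).map_injective this]
  · intro Z u v huv
    obtain ⟨v, rfl⟩ := (yon S').map_surjective v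
    have hu₁ : u = (yon S').map v ≫ z₁ := by
      have h1 := huv =≫ prod.fst
      rwa [Category.assoc, Category.assoc, prod.lift_fst, Category.comp_id] at h1
    have hu₂ : u = (yon S').map v ≫ z₂ := by
      have h1 := huv =≫ prod.snd
      rwa [Category.assoc, Category.assoc, prod.lift_snd, Category.comp_id] at h1
    have hv : v ≫ s₁ = v ≫ s₂ := (yon S').map_injective (by
      rw [Functor.map_comp, Functor.map_comp, hs₁, hs₂]
      exact (Category.assoc _ _ _).symm.trans ((congrArg (· ≫ prod.fst) (hu₁.symm.trans hu₂)).trans (Category.assoc _ _ _)))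
    let v₀ : Z ⟶ E := equalizer.lift v hv
    have hv₀ : v₀ ≫ ι = v := equalizer.lift_ι _ _
    obtain ⟨Z₀, eZ, hZ⟩ := exists_source (v ≫ s₁)
    obtain ⟨m, hm⟩ := hom_left_eq_of_strMap (eZ.hom ≫ v₀ ≫ e.inv) (by
      rw [← he, Category.assoc, Category.assoc, e.inv_hom_id_assoc, reassoc_of% hv₀, hZ])
    have hmx : ∀ w, pairMap (x w) = (yon S').map (e.hom ≫ ι) ≫ w →
        pairMap ((yon S).map m ≫ x w) = (yon S').map (eZ.hom ≫ v) ≫ w := fun w hw => by
      rw [← map_pairMap, hw, ← Category.assoc, ← Functor.map_comp, hm]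
      simp [hv₀]
    have hmm : pairMap ((yon S).map m ≫ x z₁) = pairMap ((yon S).map m ≫ x z₂) := by
      rw [hmx z₁ hx₁, hmx z₂ hx₂, Functor.map_comp, Category.assoc, Category.assoc, ← hu₁, ← hu₂]
    have hxx : (yon S).map m ≫ x z₁ = (yon S).map m ≫ x z₂ := (homEquiv Z₀).injective (by
      simpa [pairMap] using congrArg (· ≫ prod.snd) hmm)
    obtain ⟨l, hl⟩ := (yon S).map_surjective (sq.lift ((yon S).map m ≫ x z₁) ((yon S).map m) (by
      refine prod.hom_ext ?_ ?_
      · simp
      · simpa using hxx))
    have hlq : l ≫ q = m := (yon S).map_injective (by rw [Functor.map_comp, hl, sq.lift_snd])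
    have hfac : (eZ.inv ≫ (Over.map g).map l) ≫ (Over.map g).map q ≫ e.hom ≫ ι = v := by
      rw [Category.assoc, ← Category.assoc ((Over.map g).map l), ← Functor.map_comp, hlq, hm]
      simp [hv₀]
    refine ⟨(yon S').map (eZ.inv ≫ (Over.map g).map l), ?_, by rw [← Functor.map_comp, hfac]⟩
    rw [← Category.assoc, ← Functor.map_comp, hfac, hu₁]

theorem isAlgSpace_prod_of_res (h : IsAlgSpace ((res g).obj F')) :
    IsAlgSpace ((yon S').obj (Over.mk g) ⨯ F') := by
  refine ⟨representable_diag_prod h, ?_⟩
  obtain ⟨U, p, hp, hps⟩ := h.atlas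
  exact ⟨(Over.map g).obj U, pairMap p, repWith_pairMap _ hp, repWith_pairMap _ hps⟩

end Groth.L09.OverMapSp
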