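import Groth.Agent.L09.OverMapSp.Equiv

/-!
# Representable properties of charts over the larger base
-/

universe u

open CategoryTheory CategoryTheory.Limits AlgebraicGeometry Opposite AlgSp

set_option autoImplicit false
set_option linter.style.haveILetI false
set_option backward.isDefEq.respectTransparency false
set_option backward.isDefEq.respectTransparency.types false

noncomputable section

namespace Groth.L09.OverMapSp

open Groth.L23

variable {S S' : Scheme.{u}} {g : S ⟶ S'} {X : Sp S}

/-- A cartesian square over the smaller base stays cartesian over the larger one. -/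
theorem isPullback_incl {U T W : Over S} {p : (yon S).obj U ⟶ X} {x : (yon S).obj T ⟶ X} {a : W ⟶ U} {i : W ⟶ T}
    (sq : IsPullback ((yon S).map a) ((yon S).map i) p x) :
    IsPullback ((yon S').map ((Over.map g).map a)) ((yon S').map ((Over.map g).map i)) (incl g p) (incl g x) := by
  refine Groth.L23.UHPush.isPullback_of_yon ?_ ?_ ?_
  · rw [map_incl, sq.w, ← map_incl]
  · intro Z k k' h₁ h₂
    obtain ⟨k, rfl⟩ := (yon S').map_surjective k
    obtain ⟨k', rfl⟩ := (yon S').map_surjective k'
    have h₁' : k ≫ (Over.map g).map a = k' ≫ (Over.map g).map a :=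
      (yon S').map_injective (by rw [Functor.map_comp, Functor.map_comp]; exact h₁)
    have h₂' : k ≫ (Over.map g).map i = k' ≫ (Over.map g).map i :=
      (yon S').map_injective (by rw [Functor.map_comp, Functor.map_comp]; exact h₂)
    obtain ⟨Z₀, eZ, hZ⟩ := exists_source (k ≫ strMap W)
    obtain ⟨l, hl⟩ := hom_left_eq_of_strMap (eZ.hom ≫ k) (by rw [Category.assoc, hZ])
    have hs : (Over.map g).map i ≫ strMap T = strMap (g := g) W := Over.OverMorphism.ext (Over.w i)
    obtain ⟨l', hl'⟩ := hom_left_eq_of_strMap (eZ.hom ≫ k') (by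
      rw [Category.assoc, ← hs, ← Category.assoc k', ← h₂', Category.assoc, hs, hZ])
    have : l = l' := (yon S).map_injective (sq.hom_ext
      (by rw [← Functor.map_comp, ← Functor.map_comp]; congr 1
          exact map_injective (g := g) (by rw [Functor.map_comp, Functor.map_comp, hl, hl', Category.assoc, Category.assoc, h₁']))
      (by rw [← Functor.map_comp, ← Functor.map_comp]; congr 1
          exact map_injective (g := g) (by rw [Functor.map_comp, Functor.map_comp, hl, hl', Category.assoc, Category.assoc, h₂'])))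
    have hk : eZ.hom ≫ k = eZ.hom ≫ k' := by rw [← hl, ← hl', this]
    rw [(cancel_epi eZ.hom).1 hk]
  · intro Z u v huv
    obtain ⟨u, rfl⟩ := (yon S').map_surjective u
    obtain ⟨v, rfl⟩ := (yon S').map_surjective v
    obtain ⟨Z₀, eZ, hZ⟩ := exists_source (u ≫ strMap U)
    obtain ⟨m, hm⟩ := hom_left_eq_of_strMap (eZ.hom ≫ u) (by rw [Category.assoc, hZ])
    have h1 : (yon S').map ((Over.map g).map m) ≫ incl g p = (yon S').map (eZ.hom ≫ v) ≫ incl g x := by
      rw [hm, Functor.map_comp, Category.assoc, huv, Functor.map_comp, Category.assoc]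
    obtain ⟨n, hn⟩ := hom_left_eq_of_strMap (eZ.hom ≫ v) ((yon S').map_injective (by
      have h2 := congrArg (· ≫ proj g X) h1
      simp only [Category.assoc, incl_proj, ← Functor.map_comp] at h2
      simp only [Category.assoc]
      rw [← h2]
      exact congrArg _ (Over.OverMorphism.ext (Over.w m))))
    rw [← hn, map_incl, map_incl] at h1
    obtain ⟨l, hl⟩ := (yon S).map_surjective (sq.lift ((yon S).map m) ((yon S).map n) (incl_injective h1))
    have hla : l ≫ a = m := (yon S).map_injective (by rw [Functor.map_comp, hl, sq.lift_fst])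
    have hli : l ≫ i = n := (yon S).map_injective (by rw [Functor.map_comp, hl, sq.lift_snd])
    refine ⟨(yon S').map (eZ.inv ≫ (Over.map g).map l), ?_, ?_⟩
    · rw [← Functor.map_comp]
      congr 1
      rw [Category.assoc, ← Functor.map_comp, hla, hm, eZ.inv_hom_id_assoc]
    · rw [← Functor.map_comp]
      congr 1
      rw [Category.assoc, ← Functor.map_comp, hli, hn]
      simp

variable (g) in
/-- The comparison for a scheme is an isomorphism. -/
theorem isIso_incl_id (T : Over S) : IsIso (incl g (𝟙 ((yon S).obj T))) := by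
  let θ : (yon S').obj ((Over.map g).obj T) ⟶ tot g ((yon S).obj T) := incl g (𝟙 _)
  refine UHPush.isIso_of_yon θ (fun Z k k' h => ?_) (fun Z y => ?_)
  · obtain ⟨k, rfl⟩ := (yon S').map_surjective k
    obtain ⟨k', rfl⟩ := (yon S').map_surjective k'
    obtain ⟨T₁, e, he⟩ := exists_source (k ≫ strMap T)
    obtain ⟨l, hl⟩ := hom_left_eq_of_strMap (e.hom ≫ k) (by rw [Category.assoc, he])
    have hk : (yon S').map (e.hom ≫ k') ≫ θ = (yon S').map (e.hom ≫ k) ≫ θ := by
      rw [Functor.map_comp, Functor.map_comp, Category.assoc, Category.assoc, h]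
    have hk' := congrArg (· ≫ proj g _) hk
    simp only [θ, Category.assoc, incl_proj, ← Functor.map_comp] at hk'
    obtain ⟨l', hl'⟩ := hom_left_eq_of_strMap (e.hom ≫ k') (by
      rw [Category.assoc]; exact ((yon S').map_injective hk').trans he)
    rw [← hl, ← hl', map_incl, map_incl] at hk
    have hll := incl_injective hk
    rw [Category.comp_id, Category.comp_id] at hll
    congr 1
    rw [← cancel_epi e.hom, ← hl, ← hl', (yon S).map_injective hll]
  · obtain ⟨T₁, e, x, hx⟩ := exists_incl y
    obtain ⟨b, rfl⟩ := (yon S).map_surjective x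
    refine ⟨(yon S').map (e.inv ≫ (Over.map g).map b), ?_⟩
    rw [Functor.map_comp, Category.assoc, map_incl, Category.comp_id, ← hx, ← Category.assoc, ← Functor.map_comp,
      e.inv_hom_id, CategoryTheory.Functor.map_id, Category.id_comp]

theorem repWith_pullback_map_iff (F : Space S) {T : Over S} (f : (yon S).obj T ⟶ F.obj)
    (P : MorphismProperty Scheme.{u}) [P.IsStableUnderBaseChange] :
    RepWith (S := S') P (((Over.map g).sheafPullback (Type (u + 1)) (AlgSp.J S) (AlgSp.J S')).map f) ↔
      RepWith P f := by
  let κ : totF g ≅ (Over.map g).sheafPullback (Type (u + 1)) (AlgSp.J S) (AlgSp.J S') :=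
    (totAdj g).leftAdjointUniq ((Over.map g).sheafAdjunctionContinuous (Type (u + 1)) (AlgSp.J S) (AlgSp.J S'))
  haveI := isIso_incl_id g T
  let θ := incl g (𝟙 ((yon S).obj T)) ≫ κ.hom.app _
  have hw : θ ≫ ((Over.map g).sheafPullback (Type (u + 1)) (AlgSp.J S) (AlgSp.J S')).map f =
      incl g f ≫ κ.hom.app F.obj := by
    rw [Category.assoc, ← κ.hom.naturality, ← Category.assoc]
    refine congrArg (· ≫ κ.hom.app F.obj) ?_
    exact (incl_totMap f _).trans (congrArg (incl g) (Category.id_comp f))
  have sq : IsPullback θ (incl g f) (((Over.map g).sheafPullback (Type (u + 1)) (AlgSp.J S) (AlgSp.J S')).map f)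
      (κ.hom.app F.obj) := IsPullback.of_horiz_isIso ⟨hw⟩
  have sq' : IsPullback (inv θ) (((Over.map g).sheafPullback (Type (u + 1)) (AlgSp.J S) (AlgSp.J S')).map f)
      (incl g f) (inv (κ.hom.app F.obj)) := IsPullback.of_horiz_isIso ⟨by
        rw [IsIso.inv_comp_eq, ← Category.assoc, hw, Category.assoc, IsIso.hom_inv_id, Category.comp_id]⟩
  have key : RepWith (S := S') P (((Over.map g).sheafPullback (Type (u + 1)) (AlgSp.J S) (AlgSp.J S')).map f) ↔
      RepWith P (incl g f) :=
    ⟨fun h => repWith_of_isPullback sq h, fun h => repWith_of_isPullback sq' h⟩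
  rw [key]
  refine ⟨fun h => ?_, fun h => (totFibre g F.obj).repWith_ι P h⟩
  refine repWith_of_exists fun T₀ x => ?_
  obtain ⟨W, a, i, sqW⟩ := exists_isPullback_of_representable (F.property.representable_from_yon f) x
  exact ⟨W, (yon S).map a, i, sqW, repWith_prop h (U := (Over.map g).obj T₀) (V := (Over.map g).obj W) (isPullback_incl sqW)⟩

end Groth.L09.OverMapSp
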