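import Groth.Agent.L09.OverMapSp.Basic
import Groth.Agent.L23.LocP

/-!
# Restriction of algebraic spaces along a morphism of base schemes
-/

universe u

open CategoryTheory CategoryTheory.Limits AlgebraicGeometry Opposite AlgSp

set_option autoImplicit false
set_option linter.style.haveILetI false
set_option backward.isDefEq.respectTransparency false
set_option backward.isDefEq.respectTransparency.types false

noncomputable section

namespace Groth.L09.OverMapSp

variable {S S' : Scheme.{u}} (g : S ⟶ S')

instance res_isRightAdjoint : (res g).IsRightAdjoint :=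
  inferInstanceAs ((Over.map g).sheafPushforwardContinuous (Type (u + 1))
    (Scheme.fppfTopology.over S) (Scheme.fppfTopology.over S')).IsRightAdjoint

/-- The base change of a scheme over `S'`. -/
abbrev bcObj (X' : Over S') : Over S := Over.mk (pullback.snd X'.hom g)

/-- Its projection. -/
abbrev bcFst (X' : Over S') : (Over.map g).obj (bcObj g X') ⟶ X' :=
  Over.homMk (pullback.fst X'.hom g) pullback.condition

/-- The comparison with the restriction of the representable sheaf. -/
def yonComparison (X' : Over S') : (yon S).obj (bcObj g X') ⟶ (res g).obj ((yon S').obj X') :=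
  (homEquiv _).symm ((yon S').map (bcFst g X'))

theorem homEquiv_comp_yonComparison (X' : Over S') {Z : Over S} (k : Z ⟶ bcObj g X') :
    homEquiv Z ((yon S).map k ≫ yonComparison g X') = (yon S').map ((Over.map g).map k ≫ bcFst g X') := by
  rw [homEquiv_naturality, Functor.map_comp, yonComparison, Equiv.apply_symm_apply]

instance isIso_yonComparison (X' : Over S') : IsIso (yonComparison g X') := by
  refine Groth.L23.UHPush.isIso_of_yon _ (fun Z k k' h => ?_) (fun Z y => ?_)
  · obtain ⟨k, rfl⟩ := (yon S).map_surjective k
    obtain ⟨k', rfl⟩ := (yon S).map_surjective k'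
    have h' := congrArg (homEquiv Z) h
    rw [homEquiv_comp_yonComparison, homEquiv_comp_yonComparison] at h'
    have h'' : k.left ≫ pullback.fst X'.hom g = k'.left ≫ pullback.fst X'.hom g :=
      congrArg CommaMorphism.left ((yon S').map_injective h')
    exact congrArg _ (Over.OverMorphism.ext (pullback.hom_ext h'' ((Over.w k).trans (Over.w k').symm)))
  · obtain ⟨l, hl⟩ := (yon S').map_surjective (homEquiv Z y)
    refine ⟨(yon S).map (Over.homMk (pullback.lift l.left Z.hom (Over.w l)) (pullback.lift_snd _ _ _)),
      (homEquiv Z).injective ?_⟩
    rw [homEquiv_comp_yonComparison, ← hl]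
    congr 1
    ext
    exact pullback.lift_fst _ _ _

/-- The restriction of a representable sheaf is representable. -/
def representableBy (X' : Over S') : ((res g).obj ((yon S').obj X')).obj.RepresentableBy (bcObj g X') where
  homEquiv {T} := (Functor.FullyFaithful.ofFullyFaithful (yon S)).homEquiv.trans
    ((asIso (yonComparison g X')).homToEquiv.trans (AlgSp.J S).uliftYonedaEquiv.{u + 1})
  homEquiv_comp {T T'} f k := by
    show (AlgSp.J S).uliftYonedaEquiv.{u + 1} ((yon S).map (f ≫ k) ≫ yonComparison g X') =
      ((res g).obj ((yon S').obj X')).obj.map f.op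
        ((AlgSp.J S).uliftYonedaEquiv ((yon S).map k ≫ yonComparison g X'))
    rw [Functor.map_comp, Category.assoc]
    exact ((AlgSp.J S).uliftYonedaEquiv_naturality ((yon S).map k ≫ yonComparison g X') f).symm

variable {g}

theorem isAlgSpace_res {F' : Sp S'} (hF : IsAlgSpace F') : IsAlgSpace ((res g).obj F') where
  diag := by
    have hT : RepWith (⊤ : MorphismProperty Scheme.{u}) (Limits.diag F') :=
      (repWith_iff _ _).2 ⟨hF.diag, fun _ _ _ _ _ _ => trivial⟩
    have h1 : Representable ((res g).map (Limits.diag F')) := (repWith_res _ hT).1
    have e : Limits.diag ((res g).obj F') = (res g).map (Limits.diag F') ≫ prodComparison (res g) F' F' := by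
      ext <;> simp [← Functor.map_comp]
    rw [e]
    exact (MorphismProperty.cancel_right_of_respectsIso (P := (yon S).relativelyRepresentable) _ _).2 h1
  atlas := by
    obtain ⟨U, p, hp, hps⟩ := hF.atlas
    exact ⟨bcObj g U, yonComparison g U ≫ (res g).map p,
      (MorphismProperty.cancel_left_of_respectsIso (P := RepWith @Etale) _ _).2 (repWith_res _ hp),
      (MorphismProperty.cancel_left_of_respectsIso (P := RepWith @Surjective) _ _).2 (repWith_res _ hps)⟩

end Groth.L09.OverMapSp
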