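import Groth.Agent.L09.OverMapSp.Prod
import Mathlib.CategoryTheory.Sites.Pullback

/-!
# A sheaf over the smaller base viewed over the larger base
-/

universe u

open CategoryTheory CategoryTheory.Limits AlgebraicGeometry Opposite AlgSp

set_option autoImplicit false
set_option linter.style.haveILetI false
set_option backward.isDefEq.respectTransparency false
set_option backward.isDefEq.respectTransparency.types false

noncomputable section

namespace Groth.L09.OverMapSp

open Groth.L23

variable {S S' : Scheme.{u}} (g : S ⟶ S') (X : Sp S)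

/-- The scheme over the smaller base given by a point of it. -/
abbrev src {T' : Over S'} (s : T' ⟶ Over.mk g) : Over S := Over.mk s.left

/-- Its comparison with the scheme over the larger base. -/
def srcIso {T' : Over S'} (s : T' ⟶ Over.mk g) : (Over.map g).obj (src g s) ≅ T' :=
  Over.isoMk (Iso.refl _) ((Category.id_comp _).trans (Over.w s).symm)

/-- Sections: a point of the smaller base and a section over it. -/
structure TotElem (T' : Over S') where
  s : T' ⟶ Over.mk g
  x : (yon S).obj (src g s) ⟶ X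

variable {g X}

theorem TotElem.ext' {T' : Over S'} {E E' : TotElem g X T'} (h : E.s = E'.s)
    (hx : ∀ {T : Over S} (a : T ⟶ src g E.s) (a' : T ⟶ src g E'.s), a.left = a'.left →
      (yon S).map a ≫ E.x = (yon S).map a' ≫ E'.x) : E = E' := by
  obtain ⟨s, x⟩ := E
  obtain ⟨s', x'⟩ := E'
  obtain rfl : s = s' := h
  have := hx (𝟙 _) (𝟙 _) rfl
  rw [CategoryTheory.Functor.map_id, Category.id_comp, Category.id_comp] at this
  obtain rfl : x = x' := this
  rfl

theorem hom_congr {T U : Over S} {a a' : T ⟶ U} (h : a.left = a'.left) {F : Sp S}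
    (x : (yon S).obj U ⟶ F) : (yon S).map a ≫ x = (yon S).map a' ≫ x := by
  obtain rfl : a = a' := Over.OverMorphism.ext h
  rfl

theorem hom_congr' {T U : Over S'} {a a' : T ⟶ U} (h : a.left = a'.left) {F : Sp S'}
    (x : (yon S').obj U ⟶ F) : (yon S').map a ≫ x = (yon S').map a' ≫ x := by
  obtain rfl : a = a' := Over.OverMorphism.ext h
  rfl

/-- Restriction of sections. -/
def TotElem.restrict {T' T'' : Over S'} (φ : T'' ⟶ T') (E : TotElem g X T') : TotElem g X T'' where
  s := φ ≫ E.s
  x := (yon S).map (Over.homMk φ.left rfl : src g (φ ≫ E.s) ⟶ src g E.s) ≫ E.x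

variable (g X)

/-- The presheaf. -/
def totPre : PSp S' where
  obj T := TotElem g X T.unop
  map φ := ↾fun E => E.restrict φ.unop
  map_id T := by
    ext E
    exact TotElem.ext' (Category.id_comp _) fun a a' h => by
      show (yon S).map a ≫ (yon S).map _ ≫ E.x = _
      rw [← Category.assoc, ← Functor.map_comp]
      exact hom_congr (by show a.left ≫ 𝟙 _ = _; rw [Category.comp_id, h]) _
  map_comp φ ψ := by
    ext E
    exact TotElem.ext' (Category.assoc _ _ _) fun a a' h => by
      show (yon S).map a ≫ (yon S).map _ ≫ E.x = (yon S).map a' ≫ (yon S).map _ ≫ (yon S).map _ ≫ E.x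
      rw [← Category.assoc, ← Functor.map_comp, ← Category.assoc, ← Functor.map_comp, ← Category.assoc,
        ← Functor.map_comp]
      exact hom_congr (by show a.left ≫ ψ.unop.left ≫ φ.unop.left = (a'.left ≫ ψ.unop.left) ≫ φ.unop.left
                          rw [h, Category.assoc]) _

theorem isSheaf_totPre : Presheaf.IsSheaf (AlgSp.J S') (totPre g X) := by
  rw [isSheaf_iff_isSheaf_of_type]
  intro T R hR E hE
  have hcomp : ∀ ⦃Y Z : Over S'⦄ (f : Y ⟶ T) (hf : R f) (k : Z ⟶ Y),
      (E f hf).restrict k = E (k ≫ f) (R.downward_closed hf k) := fun Y Z f hf k => by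
    have := hE k (𝟙 Z) hf (R.downward_closed hf k) (Category.id_comp _).symm
    exact this.trans (congr($((totPre g X).map_id (op Z)) _))
  have hEc : ∀ ⦃Y : Over S'⦄ {f f' : Y ⟶ T} (hf : R f) (hf' : R f') (_ : f = f') {Z : Over S}
      (a : Z ⟶ src g (E f hf).s) (a' : Z ⟶ src g (E f' hf').s), a.left = a'.left →
        (yon S).map a ≫ (E f hf).x = (yon S).map a' ≫ (E f' hf').x :=
    fun Y f f' hf hf' e Z a a' h => by subst e; exact hom_congr h _
  obtain ⟨l, hl, -⟩ := UHPush.existsUnique_glueSieve hR (fun Y f hf => (yon S').map (E f hf).s) fun Y Z f hf k => by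
    rw [← Functor.map_comp, show k ≫ (E f hf).s = ((E f hf).restrict k).s from rfl, hcomp]
  obtain ⟨s, rfl⟩ := (yon S').map_surjective l
  have hs : ∀ ⦃Y : Over S'⦄ (f : Y ⟶ T) (hf : R f), f ≫ s = (E f hf).s := fun Y f hf =>
    (yon S').map_injective (by rw [Functor.map_comp]; exact hl f hf)
  let R₀ : Sieve (src g s) :=
    { arrows := fun Z a => R ((Over.map g).map a ≫ (srcIso g s).hom)
      downward_closed := fun {Z Z'} a ha k => by
        show R ((Over.map g).map (k ≫ a) ≫ _)
        rw [Functor.map_comp, Category.assoc]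
        exact R.downward_closed ha _ }
  have hR₀ : R₀ ∈ AlgSp.J S (src g s) := by
    rw [GrothendieckTopology.mem_over_iff]
    rw [GrothendieckTopology.mem_over_iff] at hR
    suffices he : Sieve.overEquiv (src g s) R₀ = Sieve.overEquiv T R by rw [he]; exact hR
    refine Sieve.ext fun Z f => ?_
    refine (Sieve.overEquiv_iff _ _).trans (Iff.trans ?_ (Sieve.overEquiv_iff _ _).symm)
    let e : (Over.map g).obj (Over.mk (f ≫ s.left)) ≅ Over.mk (f ≫ T.hom) :=
      Over.isoMk (Iso.refl _) (by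
        show 𝟙 _ ≫ f ≫ T.hom = (f ≫ s.left) ≫ g
        rw [Category.id_comp, Category.assoc]
        exact congrArg (f ≫ ·) (Over.w s).symm)
    show R _ ↔ R _
    constructor
    · intro h
      have h' := R.downward_closed h e.inv
      refine (congrArg (fun m => R.arrows m) ?_).mp h'
      ext
      show 𝟙 _ ≫ f ≫ 𝟙 _ = f
      rw [Category.id_comp, Category.comp_id]
    · intro h
      have h' := R.downward_closed h e.hom
      refine (congrArg (fun m => R.arrows m) ?_).mp h'
      ext
      show 𝟙 _ ≫ f = f ≫ 𝟙 _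
      rw [Category.id_comp, Category.comp_id]
  have hsa : ∀ ⦃Z : Over S⦄ (a : Z ⟶ src g s) (ha : R₀ a), (E _ ha).s.left = Z.hom := fun Z a ha => by
    rw [← hs _ ha]
    show (a.left ≫ 𝟙 _) ≫ s.left = Z.hom
    rw [Category.comp_id]
    exact Over.w a
  obtain ⟨x, hx, hxu⟩ := UHPush.existsUnique_glueSieve hR₀
    (fun Z a ha => (yon S).map (Over.homMk (𝟙 Z.left) (by
      show 𝟙 Z.left ≫ (E _ ha).s.left = Z.hom
      rw [Category.id_comp]; exact hsa a ha) : Z ⟶ src g (E _ ha).s) ≫ (E _ ha).x)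
    fun Z Z' a ha k => by
      rw [← Category.assoc, ← Functor.map_comp]
      have h1 := hcomp ((Over.map g).map a ≫ (srcIso g s).hom) ha ((Over.map g).map k)
      have h2 : (E _ ha).x = (E _ ha).x := rfl
      let m : Z' ⟶ src g ((E _ ha).restrict ((Over.map g).map k)).s := Over.homMk (𝟙 Z'.left) (by
        show 𝟙 Z'.left ≫ k.left ≫ (E _ ha).s.left = Z'.hom
        rw [Category.id_comp, hsa a ha]; exact Over.w k)
      let n : Z' ⟶ src g (E _ (R.downward_closed ha ((Over.map g).map k))).s := Over.homMk (𝟙 Z'.left) (by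
        show 𝟙 Z'.left ≫ (E _ (R.downward_closed ha ((Over.map g).map k))).s.left = Z'.hom
        rw [Category.id_comp, ← h1]
        show k.left ≫ (E _ ha).s.left = Z'.hom
        rw [hsa a ha]; exact Over.w k)
      have key : ∀ {E₁ E₂ : TotElem g X ((Over.map g).obj Z')} (_ : E₁ = E₂) (m₁ : Z' ⟶ src g E₁.s)
          (m₂ : Z' ⟶ src g E₂.s), m₁.left = m₂.left → (yon S).map m₁ ≫ E₁.x = (yon S).map m₂ ≫ E₂.x := by
        intro E₁ E₂ e m₁ m₂ h; subst e; exact hom_congr h _
      have s1 : (yon S).map (k ≫ (Over.homMk (𝟙 Z.left) (by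
          show 𝟙 Z.left ≫ (E _ ha).s.left = Z.hom
          rw [Category.id_comp]; exact hsa a ha) : Z ⟶ src g (E _ ha).s)) ≫ (E _ ha).x =
          (yon S).map m ≫ ((E _ ha).restrict ((Over.map g).map k)).x := by
        show _ = (yon S).map m ≫ (yon S).map _ ≫ _
        rw [← Category.assoc, ← Functor.map_comp]
        exact hom_congr (by show k.left ≫ 𝟙 _ = 𝟙 _ ≫ k.left; simp) _
      refine s1.trans ((key h1 m n rfl).trans ?_)
      refine hEc _ _ ?_ _ _ rfl
      rw [Functor.map_comp, Category.assoc]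
  refine ⟨⟨s, x⟩, fun Y f hf => ?_, fun E₁ hE₁ => ?_⟩
  · refine TotElem.ext' (hs f hf) fun {Z} a a' h => ?_
    show (yon S).map a ≫ (yon S).map _ ≫ x = _
    rw [← Category.assoc, ← Functor.map_comp]
    let a₁ : (Over.map g).obj Z ⟶ Y := Over.homMk a.left (by
      show a.left ≫ Y.hom = Z.hom ≫ g
      have h1 : a.left ≫ (f ≫ s).left = Z.hom := Over.w a
      rw [← h1, Category.assoc]
      exact congrArg (a.left ≫ ·) (Over.w (f ≫ s)).symm)
    let b : Z ⟶ src g s := a ≫ (Over.homMk f.left rfl : src g (f ≫ s) ⟶ src g s)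
    have hb : (Over.map g).map b ≫ (srcIso g s).hom = a₁ ≫ f := by
      ext
      show (a.left ≫ f.left) ≫ 𝟙 _ = a.left ≫ f.left
      rw [Category.comp_id]
    have hb' : R₀ b := by show R _; rw [hb]; exact R.downward_closed hf a₁
    refine (hx b hb').trans ?_
    let c : Z ⟶ src g (E (a₁ ≫ f) (R.downward_closed hf a₁)).s := Over.homMk (𝟙 _) (by
      show 𝟙 _ ≫ (E (a₁ ≫ f) _).s.left = Z.hom
      rw [Category.id_comp, ← hs _ (R.downward_closed hf a₁), Category.assoc, hs f hf]
      show a.left ≫ (E f hf).s.left = Z.hom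
      rw [← hs f hf]; exact Over.w a)
    refine (hEc hb' (R.downward_closed hf a₁) hb _ c rfl).trans ?_
    have key : ∀ {E₁ E₂ : TotElem g X ((Over.map g).obj Z)} (_ : E₁ = E₂) (m₁ : Z ⟶ src g E₁.s)
        (m₂ : Z ⟶ src g E₂.s), m₁.left = m₂.left → (yon S).map m₁ ≫ E₁.x = (yon S).map m₂ ≫ E₂.x := by
      intro E₁ E₂ e m₁ m₂ h; subst e; exact hom_congr h _
    rw [key (hcomp f hf a₁).symm c (Over.homMk (𝟙 _) (by
      show 𝟙 _ ≫ a.left ≫ (E f hf).s.left = Z.hom
      rw [Category.id_comp, ← hs f hf]; exact Over.w a)) rfl]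
    show (yon S).map _ ≫ (yon S).map _ ≫ _ = _
    rw [← Category.assoc, ← Functor.map_comp]
    exact hom_congr (by show 𝟙 _ ≫ a.left = _; rw [Category.id_comp, h]) _
  · have hs₁ : E₁.s = s := (yon S').map_injective (UHPush.hom_ext_sieve hR fun Y f hf => by
      rw [hl f hf, ← Functor.map_comp]
      exact congrArg _ (congrArg TotElem.s (hE₁ f hf)))
    refine TotElem.ext' hs₁ fun {Z} c c' h => ?_
    have hx₁ : (yon S).map (Over.homMk (𝟙 _) (by show 𝟙 _ ≫ E₁.s.left = s.left; rw [Category.id_comp, hs₁]) :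
        src g s ⟶ src g E₁.s) ≫ E₁.x = x := hxu _ fun Y a ha => by
      rw [← Category.assoc, ← Functor.map_comp]
      have key : ∀ {E₂ E₃ : TotElem g X ((Over.map g).obj Y)} (_ : E₂ = E₃) (m₁ : Y ⟶ src g E₂.s)
          (m₂ : Y ⟶ src g E₃.s), m₁.left = m₂.left → (yon S).map m₁ ≫ E₂.x = (yon S).map m₂ ≫ E₃.x := by
        intro E₂ E₃ e m₁ m₂ h; subst e; exact hom_congr h _
      have e := hE₁ _ ha
      rw [← key e (Over.homMk (𝟙 _) (by
        show 𝟙 _ ≫ (a.left ≫ 𝟙 _) ≫ E₁.s.left = Y.hom
        rw [Category.id_comp, Category.comp_id, hs₁]; exact Over.w a)) _ rfl]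
      show _ = (yon S).map _ ≫ (yon S).map _ ≫ _
      rw [← Category.assoc, ← Functor.map_comp]
      exact hom_congr (by show a.left ≫ 𝟙 _ = 𝟙 _ ≫ a.left ≫ 𝟙 _; simp) _
    rw [← hx₁, ← Category.assoc, ← Functor.map_comp]
    exact hom_congr (by show c.left = c'.left ≫ 𝟙 _; rw [h, Category.comp_id]) _

/-- The sheaf. -/
def tot : Sp S' := ⟨totPre g X, isSheaf_totPre g X⟩

variable {g X}

/-- The map from a scheme given by a section. -/
def pt {T' : Over S'} (E : TotElem g X T') : (yon S').obj T' ⟶ tot g X :=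
  (AlgSp.J S').uliftYonedaEquiv.symm E

theorem map_pt {T' T'' : Over S'} (φ : T'' ⟶ T') (E : TotElem g X T') :
    (yon S').map φ ≫ pt E = pt (E.restrict φ) := by
  apply (AlgSp.J S').uliftYonedaEquiv.injective
  rw [← GrothendieckTopology.uliftYonedaEquiv_naturality]
  simp only [pt, Equiv.apply_symm_apply]
  rfl

theorem exists_pt {T' : Over S'} (z : (yon S').obj T' ⟶ tot g X) : ∃ E, pt E = z :=
  ⟨(AlgSp.J S').uliftYonedaEquiv z, Equiv.symm_apply_apply _ _⟩

theorem pt_injective {T' : Over S'} {E E' : TotElem g X T'} (h : pt E = pt E') : E = E' :=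
  (AlgSp.J S').uliftYonedaEquiv.symm.injective h

/-- The section over a scheme of the smaller base. -/
def elem {T : Over S} (x : (yon S).obj T ⟶ X) : TotElem g X ((Over.map g).obj T) where
  s := strMap T
  x := (yon S).map (Over.homMk (𝟙 _) (Category.id_comp _) : src g (strMap (g := g) T) ⟶ T) ≫ x

variable (g) in
/-- The inclusion of the fibre. -/
def incl {T : Over S} (x : (yon S).obj T ⟶ X) : (yon S').obj ((Over.map g).obj T) ⟶ tot g X := pt (elem x)

theorem map_incl {T T₀ : Over S} (b : T ⟶ T₀) (x : (yon S).obj T₀ ⟶ X) :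
    (yon S').map ((Over.map g).map b) ≫ incl g x = incl g ((yon S).map b ≫ x) := by
  rw [incl, incl, map_pt]
  congr 1
  refine TotElem.ext' (Over.OverMorphism.ext (Over.w b)) fun a a' h => ?_
  show (yon S).map a ≫ (yon S).map _ ≫ (yon S).map _ ≫ x = (yon S).map a' ≫ (yon S).map _ ≫ (yon S).map b ≫ x
  simp only [← Category.assoc, ← Functor.map_comp]
  exact hom_congr (by show (a.left ≫ b.left) ≫ 𝟙 _ = (a'.left ≫ 𝟙 _) ≫ b.left; simp [h]) _

theorem pt_eq {T' : Over S'} (E : TotElem g X T') : pt E = (yon S').map (srcIso g E.s).inv ≫ incl g E.x := by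
  rw [incl, map_pt]
  congr 1

theorem incl_injective {T : Over S} {x x' : (yon S).obj T ⟶ X} (h : incl g x = incl g x') : x = x' := by
  have key : ∀ {E₁ E₂ : TotElem g X ((Over.map g).obj T)} (_ : E₁ = E₂) (m₁ : T ⟶ src g E₁.s)
      (m₂ : T ⟶ src g E₂.s), m₁.left = m₂.left → (yon S).map m₁ ≫ E₁.x = (yon S).map m₂ ≫ E₂.x := by
    intro E₁ E₂ e m₁ m₂ h; subst e; exact hom_congr h _
  have h' := key (pt_injective h) (Over.homMk (𝟙 _) (Category.id_comp _)) (Over.homMk (𝟙 _) (Category.id_comp _)) rfl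
  simp only [elem, ← Category.assoc, ← Functor.map_comp] at h'
  have e : ∀ m : T ⟶ T, m.left = 𝟙 _ → ∀ z : (yon S).obj T ⟶ X, (yon S).map m ≫ z = z := fun m hm z =>
    (hom_congr (a' := 𝟙 T) hm z).trans (by rw [CategoryTheory.Functor.map_id, Category.id_comp])
  rwa [e _ (Category.id_comp _), e _ (Category.id_comp _)] at h'

end Groth.L09.OverMapSp
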